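import Groth.Agent.GrpSch.K388.PairExt
import Groth.Agent.GrpSch.K270.MB.Shape2

/-!
# The nodes `NodePair`, `NodeDvrDatum`, `NodePicDvr` of S14306
-/

set_option autoImplicit false
universe u
open CategoryTheory CategoryTheory.Limits MonoidalCategory CartesianMonoidalCategory MonObj AlgebraicGeometry
open K999.Cart K999.EDesc K999.Scal K999.VIso Groth.Agent.Grpsch.PicGrp K529.KL
open K270.MB K388.ExtUnit K388.ExtCart K388.ExtGeom K388.DvrDatum K388.PairExt

noncomputable section

namespace K388.NodePair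

section Indep

variable {S : Scheme.{u}} {X : Over S} [GrpObj X] {P : GTor (X ⊗ X)} {D : Bir P} {N : ℕ}

/-- The pairing does not depend on the theta datum. -/
theorem e_indep (θ θ' : Theta D N) (hU : PushU X) {T : Over S} (x y : T ⟶ X) (hx : x ^ N = 1) (hy : y ^ N = 1) :
    θ.e x y hx hy = θ'.e x y hx hy := by
  have hx₁ : (fst T X ≫ x) ^ N = 1 := by rw [← comp_pow', hx, MonObj.comp_one]
  have key : ∀ (x' z' : T ⟶ X) (hx' : x' ^ N = 1) (z : T ⟶ X), x' = x → z' = z → θ'.t x' z' hx' = θ'.t x z hx := by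
    rintro x' z' hx' z rfl rfl
    rfl
  have hval : ∀ z : T ⟶ X, P.res (lift (𝟙 T) z) (θ'.t (fst T X ≫ x) (snd T X) hx₁) = θ'.t x z hx := by
    intro z
    have hx'' : (lift (𝟙 T) z ≫ fst T X ≫ x) ^ N = 1 := by rw [← comp_pow', hx₁, MonObj.comp_one]
    rw [θ'.res_t _ _ _ _ hx'']
    refine key _ _ _ _ ?_ (lift_snd _ _)
    rw [lift_fst_assoc, Category.id_comp]
  apply θ.e_eq (hx := hx) (hy := hy)
  have h := θ.act_e_of hU x y hx hy (θ'.t (fst T X ≫ x) (snd T X) hx₁) (by rw [Theta.pt_t])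
    (by rw [hval, θ'.t_one_right])
  rw [hval, ← θ'.act_e x y hx hy] at h
  rw [← P.act_inj _ _ _ h, θ.act_e]

end Indep

section Flat

variable {S : Scheme.{u}}

instance flat_tensor (X Y : Over S) [Flat X.hom] [Flat Y.hom] : Flat (X ⊗ Y).hom := by
  rw [← tensor_w' X Y]
  have : Flat (snd X Y).left := MorphismProperty.of_isPullback (isPullback_tensor X Y) inferInstance
  infer_instance

instance isFinite_tensor (X Y : Over S) [IsFinite X.hom] [IsFinite Y.hom] : IsFinite (X ⊗ Y).hom := by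
  rw [← tensor_w' X Y]
  have : IsFinite (snd X Y).left := MorphismProperty.of_isPullback (isPullback_tensor X Y) inferInstance
  infer_instance

theorem isAffine_of_finite {R : Type u} [CommRing R] (X : Over (Spec (CommRingCat.of R))) [IsFinite X.hom] :
    IsAffine X.left := isAffine_of_isAffineHom X.hom

end Flat

section Main

variable {R K : Type u} [CommRing R] [IsDomain R] [Field K] [Algebra R K] [IsFractionRing R K]
  {g : Spec (CommRingCat.of K) ⟶ Spec (CommRingCat.of R)}
  (hg : g = Spec.map (CommRingCat.ofHom (algebraMap R K))) [IsNoetherianRing R] [IsIntegrallyClosed R]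

theorem e_congr' {S : Scheme.{u}} {X : Over S} [GrpObj X] {P : GTor (X ⊗ X)} {D : Bir P} {N : ℕ} (θ : Theta D N)
    {T : Over S} {x x' y y' : T ⟶ X} (hx : x ^ N = 1) (hy : y ^ N = 1) (hx' : x' ^ N = 1) (hy' : y' ^ N = 1)
    (h₁ : x = x') (h₂ : y = y') : θ.e x y hx hy = θ.e x' y' hx' hy' := by
  subst h₁ h₂
  rfl

include hg in
/-- **Extension of the pairing.** -/
theorem exists_pairing (A : Over (Spec (CommRingCat.of R))) [GrpObj A] [IsCommMonObj A] [Smooth A.hom]
    [GeometricallyConnected A.hom]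
    {P : (Red.bc g A ⊗ Red.bc g A).left.Modules} (hP : PicF.IsInvertible P)
    {D : Bir (GTor.ofMod (Red.bc g A ⊗ Red.bc g A) P)} {N : ℕ} (θ : ATheta D N)
    (hc : ConstU (Red.bc g A)) (hU : PushU (Red.bc g A))
    {F : Over (Spec (CommRingCat.of R))} [GrpObj F] (f : F ⟶ A) [IsMonHom f] [Flat F.hom] [IsFinite F.hom]
    (hf : f ^ N = 1) :
    ∃ e : Pairing F F, ∀ {T : Over (Spec (CommRingCat.of K))} (x y : T ⟶ Red.bc g F)
      (hx : (x ≫ (Over.pullback g).map f : T ⟶ Red.bc g A) ^ N = 1)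
      (hy : (y ≫ (Over.pullback g).map f : T ⟶ Red.bc g A) ^ N = 1),
      θ.toTheta.e (x ≫ (Over.pullback g).map f : T ⟶ Red.bc g A) (y ≫ (Over.pullback g).map f) hx hy =
        e.e (T := (Over.map g).obj T) (dn g x) (dn g y) := by
  have hcomm : IsCommMonObj (Red.bc g A) := inferInstance
  have hfp : ∀ {T : Over (Spec (CommRingCat.of R))} (x : T ⟶ F), (x ≫ f) ^ N = 1 := by
    intro T x
    rw [← comp_pow', hf, MonObj.comp_one]
  have hfp' : ∀ {T : Over (Spec (CommRingCat.of R))} (x : T ⟶ F),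
      ((Over.pullback g).map (x ≫ f) : Red.bc g T ⟶ Red.bc g A) ^ N = 1 := by
    intro T x
    rw [← bc_map_pow, hfp, bc_map_one]
  have i1 : IsAffine (F ⊗ F).left := isAffine_of_finite _
  have i2 : IsAffine (F ⊗ (F ⊗ F)).left := isAffine_of_finite _
  obtain ⟨u, hu⟩ := exists_val hg A hP θ hc hU (fst F F ≫ f) (snd F F ≫ f) (hfp _) (hfp _) (hfp' _) (hfp' _)
  -- pullback to points of the base change
  have key : ∀ {T : Over (Spec (CommRingCat.of K))} (z : T ⟶ Red.bc g (F ⊗ F))
      (hx : (z ≫ (Over.pullback g).map (fst F F ≫ f) : T ⟶ Red.bc g A) ^ N = 1)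
      (hy : (z ≫ (Over.pullback g).map (snd F F ≫ f) : T ⟶ Red.bc g A) ^ N = 1),
      ures z (rs g (F ⊗ F) u) = θ.toTheta.e (z ≫ (Over.pullback g).map (fst F F ≫ f) : T ⟶ Red.bc g A)
        (z ≫ (Over.pullback g).map (snd F F ≫ f)) hx hy := by
    intro T z hx hy
    rw [hu, ← θ.toTheta.e_nat z _ _ _ _ hx hy]
  have keyR : ∀ {T : Over (Spec (CommRingCat.of R))} (x y : T ⟶ F),
      rs g T (ures (lift x y) u) = θ.toTheta.e ((Over.pullback g).map (x ≫ f) : Red.bc g T ⟶ Red.bc g A)
        ((Over.pullback g).map (y ≫ f)) (hfp' x) (hfp' y) := by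
    intro T x y
    have e1 : (Over.pullback g).map (lift x y) ≫ (Over.pullback g).map (fst F F ≫ f) =
        (Over.pullback g).map (x ≫ f) := by rw [← Functor.map_comp, lift_fst_assoc]
    have e2 : (Over.pullback g).map (lift x y) ≫ (Over.pullback g).map (snd F F ≫ f) =
        (Over.pullback g).map (y ≫ f) := by rw [← Functor.map_comp, lift_snd_assoc]
    rw [rs_ures, key _ (by rw [e1]; exact hfp' x) (by rw [e2]; exact hfp' y)]
    exact e_congr' _ _ _ _ _ e1 e2
  have hmapmul : ∀ {T : Over (Spec (CommRingCat.of R))} (x y : T ⟶ F),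
      ((Over.pullback g).map ((x * y) ≫ f) : Red.bc g T ⟶ Red.bc g A) =
        (Over.pullback g).map (x ≫ f) * (Over.pullback g).map (y ≫ f) := by
    intro T x y
    rw [MonObj.mul_comp, bc_map_mul]
  have uL : ∀ {T : Over (Spec (CommRingCat.of R))} [Flat T.hom] [CompactSpace T.left] [QuasiSeparatedSpace T.left]
      (a b c : T ⟶ F), ures (lift (a * b) c) u = ures (lift a c) u * ures (lift b c) u := by
    intro T _ _ _ a b c
    apply rs_injective hg T
    rw [map_mul, keyR, keyR, keyR]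
    have h1 := θ.toTheta.e_mul_left hU ((Over.pullback g).map (a ≫ f) : Red.bc g T ⟶ Red.bc g A)
      ((Over.pullback g).map (b ≫ f)) ((Over.pullback g).map (c ≫ f)) (hfp' a) (hfp' b)
      (by rw [← hmapmul]; exact hfp' (a * b)) (hfp' c)
    rw [← h1]
    exact e_congr' _ _ _ _ _ (hmapmul a b) rfl
  have uR : ∀ {T : Over (Spec (CommRingCat.of R))} [Flat T.hom] [CompactSpace T.left] [QuasiSeparatedSpace T.left]
      (a b c : T ⟶ F), ures (lift a (b * c)) u = ures (lift a b) u * ures (lift a c) u := by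
    intro T _ _ _ a b c
    apply rs_injective hg T
    rw [map_mul, keyR, keyR, keyR]
    have h1 := θ.toTheta.e_mul_right hU ((Over.pullback g).map (a ≫ f) : Red.bc g T ⟶ Red.bc g A)
      ((Over.pullback g).map (b ≫ f)) ((Over.pullback g).map (c ≫ f)) (hfp' a) (hfp' b)
      (hfp' c) (by rw [← hmapmul]; exact hfp' (b * c))
    rw [← h1]
    exact e_congr' _ _ _ _ _ rfl (hmapmul b c)
  refine ⟨⟨fun {T} x y => ures (lift x y) u, ?_, ?_, ?_⟩, ?_⟩
  · intro T T' h x y
    rw [← ures_comp, comp_lift]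
  · intro T x x' y
    have h1 := congrArg (ures (lift x (lift x' y)))
      (uL (fst F (F ⊗ F)) (snd F (F ⊗ F) ≫ fst F F) (snd F (F ⊗ F) ≫ snd F F))
    rw [map_mul, ← ures_comp, ← ures_comp, ← ures_comp, comp_lift, comp_lift, comp_lift, MonObj.comp_mul,
      lift_fst, lift_snd_assoc, lift_snd_assoc, lift_fst, lift_snd] at h1
    exact h1
  · intro T x y y'
    have h1 := congrArg (ures (lift x (lift y y')))
      (uR (fst F (F ⊗ F)) (snd F (F ⊗ F) ≫ fst F F) (snd F (F ⊗ F) ≫ snd F F))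
    rw [map_mul, ← ures_comp, ← ures_comp, ← ures_comp, comp_lift, comp_lift, comp_lift, MonObj.comp_mul,
      lift_fst, lift_snd_assoc, lift_snd_assoc, lift_fst, lift_snd] at h1
    exact h1
  · intro T x y hx hy
    let z : T ⟶ Red.bc g (F ⊗ F) := upp g (lift (dn g x) (dn g y))
    have hz : dn g z = lift (dn g x) (dn g y) := dn_upp g _
    have e1 : z ≫ (Over.pullback g).map (fst F F ≫ f) = x ≫ (Over.pullback g).map f := by
      apply dn_inj g
      rw [dn_map, dn_map, hz, lift_fst_assoc]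
    have e2 : z ≫ (Over.pullback g).map (snd F F ≫ f) = y ≫ (Over.pullback g).map f := by
      apply dn_inj g
      rw [dn_map, dn_map, hz, lift_snd_assoc]
    have h1 := key z (by rw [e1]; exact hx) (by rw [e2]; exact hy)
    have h2 : ures (lift (dn g x) (dn g y)) u = ures ((Over.map g).map z) (ures (dn g (𝟙 (Red.bc g (F ⊗ F)))) u) := by
      rw [← ures_comp, ← dn_comp, Category.comp_id, hz]
    refine Eq.trans ?_ h2.symm
    refine Eq.trans ?_ h1.symm
    exact e_congr' _ _ _ _ _ e1.symm e2.symm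

end Main

section Nodes

theorem nodePair : K270.MB.NodePair.{u} := by
  intro R _ _ _ _ _ A _ _ hsm _ _ hgc hc hU P hP D N _ hcl θ F _ f hF
  obtain ⟨θA⟩ := exists_atheta hP D hc N hcl
  have h1 := hF.mon
  have h2 := hF.flat
  have h3 := hF.finite
  obtain ⟨e, he⟩ := exists_pairing (g := gen R) rfl A hP θA hc hU f hF.pow
  refine ⟨e, fun {T} x y hx hy => ?_⟩
  rw [e_indep θ θA.toTheta hU]
  exact he x y hx hy

theorem nodeDvrDatum : K270.MB.NodeDvrDatum.{u} := by
  intro V K _ _ _ _ _ _ A _ _ hsm _ _ hgc hc P hP D hcl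
  obtain ⟨P', κ, D', hP', hκ, hκb, hθ⟩ := K388.DvrDatum.main (V := V) (K := K) rfl A P hP D hcl hc
  exact ⟨P', hP', κ, D', hκ, hκb.trans (pr2_eq_cc _ A), hθ⟩

theorem nodePicDvr : K270.MB.NodePicDvr.{u} := by
  intro V K _ _ _ _ _ _ X hsm _ _ hgi _
  have hirr : IsIrreducible (X.hom ⁻¹' {(IsLocalRing.closedPoint V : PrimeSpectrum V)} : Set X.left) := by
    have h2 : IrreducibleSpace (X.hom.fiber (IsLocalRing.closedPoint V : PrimeSpectrum V)) := inferInstance
    have h3 : (X.hom ⁻¹' {(IsLocalRing.closedPoint V : PrimeSpectrum V)} : Set X.left) =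
        Set.range (X.hom.fiberι (IsLocalRing.closedPoint V : PrimeSpectrum V)) :=
      (X.hom.range_fiberι _).symm
    rw [h3, ← Set.image_univ]
    exact (IrreducibleSpace.isIrreducible_univ _).image _ (X.hom.fiberι _).continuous.continuousOn
  refine ⟨pull_injective X.hom (isPullback_pr (sp (algebraMap V K)) X) hirr, fun c => ?_⟩
  obtain ⟨L₀, hL₀, rfl⟩ := exists_mk c
  obtain ⟨L, κ, hL, hκ, hκb⟩ := exists_obj X.hom (isPullback_pr (sp (algebraMap V K)) X) L₀ hL₀
  exact ⟨mk L hL, mk_of_cart hL₀ hL hκ hκb⟩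

end Nodes

end K388.NodePair
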