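import Groth.Agent.GrpSch.K388.ExtCart
import Groth.Agent.AbSch.K448.SmoothConn
import Groth.Prelude.Def_Red

/-!
# Generic fibres of products, and irreducible fibres

* `pr g X : (Red.bc g X).left ⟶ X.left`, `pr2 g X Y : (Red.bc g X ⊗ Red.bc g Y).left ⟶ (X ⊗ Y).left`, both base
  changes of `g` (`isPullback_pr`, `isPullback_pr2`).
* `up g T x`: the `S`-point of `X` attached to a point of `Red.bc g X`; compatibility with `pr2`.
* `isIrreducible_fibre`: fibres of smooth geometrically connected morphisms are irreducible.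
-/

set_option autoImplicit false
universe u

open CategoryTheory CategoryTheory.Limits MonoidalCategory CartesianMonoidalCategory AlgebraicGeometry

namespace K388.ExtGeom

section Prod

variable {S S' : Scheme.{u}} (g : S' ⟶ S) (X Y : Over S)

/-- The projection of the base change. -/
noncomputable def pr : (Red.bc g X).left ⟶ X.left := pullback.fst X.hom g

theorem isPullback_pr : IsPullback (pr g X) (Red.bc g X).hom X.hom g :=
  IsPullback.of_hasPullback X.hom g

@[reassoc]
theorem pr_w : pr g X ≫ X.hom = (Red.bc g X).hom ≫ g := (isPullback_pr g X).w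

@[reassoc]
theorem bcMap_pr {X Y : Over S} (f : X ⟶ Y) : ((Over.pullback g).map f).left ≫ pr g Y = pr g X ≫ f.left := by
  exact pullback.lift_fst _ _ _

theorem tensor_w (X Y : Over S) : (fst X Y).left ≫ X.hom = (X ⊗ Y).hom := Over.w (fst X Y)

theorem tensor_w' (X Y : Over S) : (snd X Y).left ≫ Y.hom = (X ⊗ Y).hom := Over.w (snd X Y)

theorem isPullback_tensor (X Y : Over S) : IsPullback (fst X Y).left (snd X Y).left X.hom Y.hom :=
  IsPullback.of_hasPullback X.hom Y.hom

/-- The projection of the base change of a product. -/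
noncomputable def pr2 : (Red.bc g X ⊗ Red.bc g Y).left ⟶ (X ⊗ Y).left :=
  (isPullback_tensor X Y).lift ((fst (Red.bc g X) (Red.bc g Y)).left ≫ pr g X) ((snd (Red.bc g X) (Red.bc g Y)).left ≫ pr g Y) (by
    rw [Category.assoc, Category.assoc, pr_w, pr_w, ← Category.assoc, ← Category.assoc, tensor_w, tensor_w'])

@[reassoc]
theorem pr2_fst : pr2 g X Y ≫ (fst X Y).left = (fst (Red.bc g X) (Red.bc g Y)).left ≫ pr g X := IsPullback.lift_fst _ _ _ _

@[reassoc]
theorem pr2_snd : pr2 g X Y ≫ (snd X Y).left = (snd (Red.bc g X) (Red.bc g Y)).left ≫ pr g Y := IsPullback.lift_snd _ _ _ _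

theorem isPullback_pr2 : IsPullback (pr2 g X Y) (Red.bc g X ⊗ Red.bc g Y).hom (X ⊗ Y).hom g := by
  -- `(X ⊗ Y)_{S'} → Y_{S'}` is the base change of `X ⊗ Y → Y`
  have h1 : IsPullback ((fst (Red.bc g X) (Red.bc g Y)).left ≫ pr g X) (snd (Red.bc g X) (Red.bc g Y)).left X.hom
      ((Red.bc g Y).hom ≫ g) :=
    IsPullback.paste_horiz (isPullback_tensor (Red.bc g X) (Red.bc g Y)) (isPullback_pr g X)
  rw [← pr_w g Y, ← pr2_fst] at h1
  have h2 : IsPullback (pr2 g X Y) (snd (Red.bc g X) (Red.bc g Y)).left (snd X Y).left (pr g Y) :=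
    IsPullback.of_right h1 (pr2_snd g X Y) (isPullback_tensor X Y)
  have h3 := h2.paste_vert (isPullback_pr g Y)
  rwa [tensor_w', tensor_w'] at h3

end Prod

section Irr

theorem isIrreducible_fibre {Y S : Scheme.{u}} (p : Y ⟶ S) [Smooth p] [GeometricallyConnected p] (s : S) :
    IsIrreducible (p ⁻¹' {s} : Set Y) := by
  have h1 : GeometricallyIntegral p := K448.SmoothConn.geometricallyIntegral p
  have h2 : IrreducibleSpace (p.fiber s) := inferInstance
  have h3 : (p ⁻¹' {s} : Set Y) = Set.range (p.fiberι s) := (p.range_fiberι s).symm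
  rw [h3, ← Set.image_univ]
  exact (IrreducibleSpace.isIrreducible_univ _).image _ (p.fiberι s).continuous.continuousOn

instance smooth_tensor {S : Scheme.{u}} (X Y : Over S) [Smooth X.hom] [Smooth Y.hom] : Smooth (X ⊗ Y).hom := by
  rw [← tensor_w' X Y]
  have h := isPullback_tensor X Y
  have : Smooth (snd X Y).left := MorphismProperty.of_isPullback h inferInstance
  infer_instance

theorem geometricallyConnected_tensor {S : Scheme.{u}} (X Y : Over S) [Smooth X.hom] [Smooth Y.hom]
    [GeometricallyConnected X.hom] [GeometricallyConnected Y.hom] : GeometricallyConnected (X ⊗ Y).hom := by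
  rw [← tensor_w' X Y]
  have h := isPullback_tensor X Y
  have h1 : GeometricallyConnected (snd X Y).left := MorphismProperty.of_isPullback h inferInstance
  have h2 : Smooth (snd X Y).left := MorphismProperty.of_isPullback h inferInstance
  exact GeometricallyConnected.comp _ _

end Irr

end K388.ExtGeom
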