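import Groth.Agent.GrpSch.K270.MB.Exist
import Groth.Agent.GrpSch.K388.ExtGeom

/-!
# Extension of the theta datum over a discrete valuation ring

`main`: `V` a discrete valuation ring with field of fractions `K`, `A` a smooth `V`-group with geometrically connected
fibres, `P_K` an invertible module on `A_K × A_K` with rigidifications along the axes, with
`([N] × 1)^* P_K ≅ (1 × [N])^* P_K` for all `N`, and `A_K` with constant units.  Then `P_K` extends to an invertible
module `P` on `A × A`, with rigidifications and theta data.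
-/

set_option autoImplicit false
universe u
open CategoryTheory CategoryTheory.Limits MonoidalCategory CartesianMonoidalCategory MonObj AlgebraicGeometry
open K999.Cart K999.EDesc K999.Scal K999.VIso Groth.Agent.Grpsch.PicGrp K529.KL
open K270.MB K388.ExtUnit K388.ExtCart K388.ExtGeom

noncomputable section

namespace K388.DvrDatum

section Gen

variable {S S' : Scheme.{u}} (k : S' ⟶ S)

/-- The image of a point of the base change. -/
theorem map_pr2 {X T : Over S} (a b : T ⟶ X) :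
    ((Over.pullback k).map a ⊗ₘ (Over.pullback k).map b).left ≫ pr2 k X X = pr2 k T T ≫ (a ⊗ₘ b).left := by
  have h := isPullback_tensor X X
  apply h.hom_ext
  · rw [Category.assoc, pr2_fst, ← Category.assoc, ← Over.comp_left, tensorHom_fst, Over.comp_left,
      Category.assoc, bcMap_pr, ← Category.assoc, ← pr2_fst, Category.assoc, Category.assoc, ← Over.comp_left,
      ← Over.comp_left, tensorHom_fst]
  · rw [Category.assoc, pr2_snd, ← Category.assoc, ← Over.comp_left, tensorHom_snd, Over.comp_left,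
      Category.assoc, bcMap_pr, ← Category.assoc, ← pr2_snd, Category.assoc, Category.assoc, ← Over.comp_left,
      ← Over.comp_left, tensorHom_snd]

/-- Base change of `(a, b) : T ⟶ X ⊗ X`. -/
theorem lift_bc {X T : Over S} (a b : T ⟶ X) :
    (lift ((Over.pullback k).map a) ((Over.pullback k).map b)).left ≫ pr2 k X X = pr k T ≫ (lift a b).left := by
  have h := isPullback_tensor X X
  apply h.hom_ext
  · rw [Category.assoc, pr2_fst, ← Category.assoc, ← Over.comp_left, lift_fst, bcMap_pr,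
      Category.assoc, ← Over.comp_left, lift_fst]
  · rw [Category.assoc, pr2_snd, ← Category.assoc, ← Over.comp_left, lift_snd, bcMap_pr,
      Category.assoc, ← Over.comp_left, lift_snd]

variable (A : Over S) [GrpObj A]

theorem bc_map_one (T : Over S) : (Over.pullback k).map (1 : T ⟶ A) = (1 : Red.bc k T ⟶ Red.bc k A) :=
  Functor.map_one (F := Over.pullback k) (X := T) (M := A)

theorem bc_map_mul {T : Over S} (a b : T ⟶ A) :
    (Over.pullback k).map (a * b) = ((Over.pullback k).map a * (Over.pullback k).map b : Red.bc k T ⟶ Red.bc k A) :=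
  Functor.map_mul (F := Over.pullback k) a b

theorem bc_map_pow {T : Over S} (a : T ⟶ A) (N : ℕ) :
    (Over.pullback k).map (a ^ N) = (((Over.pullback k).map a) ^ N : Red.bc k T ⟶ Red.bc k A) := by
  induction N with
  | zero => rw [pow_zero, pow_zero, bc_map_one]
  | succ n ih => rw [pow_succ, pow_succ, bc_map_mul, ih]

theorem powL_eq (N : ℕ) : powL A N = (𝟙 A ^ N) ⊗ₘ 𝟙 A := by
  apply CartesianMonoidalCategory.hom_ext
  · rw [lift_fst, tensorHom_fst, comp_pow', Category.comp_id]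
  · rw [lift_snd, tensorHom_snd, Category.comp_id]

theorem powR_eq (N : ℕ) : powR A N = 𝟙 A ⊗ₘ (𝟙 A ^ N) := by
  apply CartesianMonoidalCategory.hom_ext
  · rw [lift_fst, tensorHom_fst, Category.comp_id]
  · rw [lift_snd, tensorHom_snd, comp_pow', Category.comp_id]

theorem powL_pr2 (N : ℕ) : (powL (Red.bc k A) N).left ≫ pr2 k A A = pr2 k A A ≫ (powL A N).left := by
  have h := map_pr2 k (𝟙 A ^ N) (𝟙 A)
  rw [bc_map_pow, CategoryTheory.Functor.map_id] at h
  rw [powL_eq, powL_eq]
  exact h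

theorem powR_pr2 (N : ℕ) : (powR (Red.bc k A) N).left ≫ pr2 k A A = pr2 k A A ≫ (powR A N).left := by
  have h := map_pr2 k (𝟙 A) (𝟙 A ^ N)
  rw [bc_map_pow, CategoryTheory.Functor.map_id] at h
  rw [powR_eq, powR_eq]
  exact h

theorem axis₁ : (lift (1 : Red.bc k A ⟶ Red.bc k A) (𝟙 _)).left ≫ pr2 k A A = pr k A ≫ (lift (1 : A ⟶ A) (𝟙 A)).left := by
  have h := lift_bc k (1 : A ⟶ A) (𝟙 A)
  rw [bc_map_one, CategoryTheory.Functor.map_id] at h
  exact h

theorem axis₂ : (lift (𝟙 (Red.bc k A)) 1).left ≫ pr2 k A A = pr k A ≫ (lift (𝟙 A) (1 : A ⟶ A)).left := by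
  have h := lift_bc k (𝟙 A) (1 : A ⟶ A)
  rw [bc_map_one, CategoryTheory.Functor.map_id] at h
  exact h

end Gen

section Dvr

variable {V K : Type u} [CommRing V] [IsDomain V] [IsDiscreteValuationRing V] [Field K] [Algebra V K]
  [IsFractionRing V K]

theorem mk_of_cart {X Y : Scheme.{u}} {f : X ⟶ Y} {L : X.Modules} {M : Y.Modules} (hL : PicF.IsInvertible L)
    (hM : PicF.IsInvertible M) {κ : ob X L ⟶ ob Y M} (hκ : IsCart κ) (hb : κ.base = f) :
    pull f (mk M hM) = mk L hL := by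
  obtain ⟨e, -⟩ := exists_iso_of_cart (isCart_cart f M) hκ rfl hb
  rw [pull_mk, mk_eq_iff]
  exact ⟨e⟩

/-- Restriction to the generic fibre is injective on Picard groups. -/
theorem pull_injective {Y Z : Scheme.{u}} (p : Y ⟶ Spec (CommRingCat.of V)) {g : Z ⟶ Y}
    {k : Z ⟶ Spec (CommRingCat.of K)}
    (h : IsPullback g k p (Spec.map (CommRingCat.ofHom (algebraMap V K)))) [Smooth p]
    (hirr : IsIrreducible (p ⁻¹' {(IsLocalRing.closedPoint V : PrimeSpectrum V)} : Set Y)) :
    Function.Injective (pull g) := by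
  intro c d hcd
  obtain ⟨L, hL, rfl⟩ := exists_mk c
  obtain ⟨M, hM, rfl⟩ := exists_mk d
  rw [pull_mk, pull_mk, mk_eq_iff] at hcd
  exact (mk_eq_iff hL hM).mpr (nonempty_iso p h hirr hL hM hcd)

/-- Constant units over a discrete valuation ring. -/
theorem constU {k : Spec (CommRingCat.of K) ⟶ Spec (CommRingCat.of V)}
    (hk : k = Spec.map (CommRingCat.ofHom (algebraMap V K)))
    (A : Over (Spec (CommRingCat.of V))) [GrpObj A] [Flat A.hom] (hc : ConstU (Red.bc k A)) : ConstU A := by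
  have hpr : IsPullback (pr k A) (Red.bc k A).hom A.hom (Spec.map (CommRingCat.ofHom (algebraMap V K))) := by
    rw [← hk]; exact isPullback_pr k A
  intro v
  apply Units.ext
  apply ExtUnit.appTop_injective A.hom hpr
  let vK : U (Red.bc k A) := Units.map ((pr k A).appTop.hom : Γ(A.left, ⊤) →* Γ((Red.bc k A).left, ⊤)) v
  have h1 := hc vK
  have h2 := congrArg Units.val h1
  refine h2.trans ?_
  -- both sides are pulled back from the base
  have e1 : (Red.bc k A).hom ≫ k ≫ (η : 𝟙_ (Over (Spec (CommRingCat.of V))) ⟶ A).left =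
      pr k A ≫ (toUnit A).left ≫ (η : 𝟙_ (Over (Spec (CommRingCat.of V))) ⟶ A).left := by
    rw [← Category.assoc, ← pr_w, Category.assoc]
    rfl
  have e2 : (toUnit (Red.bc k A)).left ≫ (η : 𝟙_ (Over (Spec (CommRingCat.of K))) ⟶ Red.bc k A).left ≫ pr k A =
      pr k A ≫ (toUnit A).left ≫ (η : 𝟙_ (Over (Spec (CommRingCat.of V))) ⟶ A).left := by
    have h3 : toUnit (Red.bc k A) ≫ (η : 𝟙_ (Over (Spec (CommRingCat.of K))) ⟶ Red.bc k A) = 1 := rfl
    have h4 : toUnit A ≫ (η : 𝟙_ (Over (Spec (CommRingCat.of V))) ⟶ A) = 1 := rfl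
    rw [← Category.assoc, ← Over.comp_left, h3, ← Over.comp_left, h4, ← bcMap_pr, bc_map_one]
  change ((toUnit (Red.bc k A)).left.appTop ((η : 𝟙_ (Over (Spec (CommRingCat.of K))) ⟶ Red.bc k A).left.appTop
    ((pr k A).appTop v))) = (pr k A).appTop ((toUnit A).left.appTop
      ((η : 𝟙_ (Over (Spec (CommRingCat.of V))) ⟶ A).left.appTop v))
  have e3 := congrArg (fun f : (Red.bc k A).left ⟶ A.left => f.appTop (v : Γ(A.left, ⊤))) e2
  dsimp only at e3
  rw [Scheme.Hom.comp_appTop, Scheme.Hom.comp_appTop, Scheme.Hom.comp_appTop, Scheme.Hom.comp_appTop] at e3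
  exact e3

/-- **Extension of the theta datum over a discrete valuation ring.** -/
theorem main {k : Spec (CommRingCat.of K) ⟶ Spec (CommRingCat.of V)}
    (hk : k = Spec.map (CommRingCat.ofHom (algebraMap V K)))
    (A : Over (Spec (CommRingCat.of V))) [GrpObj A] [Smooth A.hom] [GeometricallyConnected A.hom]
    (P₀ : (Red.bc k A ⊗ Red.bc k A).left.Modules) (hP₀ : PicF.IsInvertible P₀)
    (D₀ : Bir (GTor.ofMod (Red.bc k A ⊗ Red.bc k A) P₀))
    (hcl : ∀ N : ℕ, pl (powL (Red.bc k A) N) (mk P₀ hP₀) = pl (powR (Red.bc k A) N) (mk P₀ hP₀))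
    (hc : ConstU (Red.bc k A)) :
    ∃ (P : (A ⊗ A).left.Modules) (κ : ob (Red.bc k A ⊗ Red.bc k A).left P₀ ⟶ ob (A ⊗ A).left P)
      (D : Bir (GTor.ofMod (A ⊗ A) P)), PicF.IsInvertible P ∧ IsCart κ ∧ κ.base = pr2 k A A ∧
        ∀ N : ℕ, Nonempty (ATheta D N) := by
  have hsm2 : Smooth (A ⊗ A).hom := inferInstance
  have hgc2 : GeometricallyConnected (A ⊗ A).hom := geometricallyConnected_tensor A A
  have hirr := isIrreducible_fibre A.hom (IsLocalRing.closedPoint V : PrimeSpectrum V)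
  have hirr2 := isIrreducible_fibre (A ⊗ A).hom (IsLocalRing.closedPoint V : PrimeSpectrum V)
  have hcA : ConstU A := constU hk A hc
  have hpr : IsPullback (pr k A) (Red.bc k A).hom A.hom (Spec.map (CommRingCat.ofHom (algebraMap V K))) := by
    rw [← hk]; exact isPullback_pr k A
  have hpr2 : IsPullback (pr2 k A A) (Red.bc k A ⊗ Red.bc k A).hom (A ⊗ A).hom
      (Spec.map (CommRingCat.ofHom (algebraMap V K))) := by
    rw [← hk]; exact isPullback_pr2 k A A
  obtain ⟨P, κ, hP, hκ, hκb⟩ := exists_obj (A ⊗ A).hom hpr2 P₀ hP₀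
  have hinj := pull_injective A.hom hpr hirr
  have hinj2 := pull_injective (A ⊗ A).hom hpr2 hirr2
  have hPP : pull (pr2 k A A) (mk P hP) = mk P₀ hP₀ := mk_of_cart hP₀ hP hκ hκb
  have h₁ : ∃ a : (GTor.ofMod (A ⊗ A) P).obj A, (GTor.ofMod (A ⊗ A) P).pt a = lift 1 (𝟙 A) := by
    rw [exists_obj_iff hP]
    apply hinj
    have h1 : pl (lift (1 : Red.bc k A ⟶ Red.bc k A) (𝟙 _)) (mk P₀ hP₀) = 1 :=
      (exists_obj_iff hP₀ _).mp ⟨D₀.r₁ (𝟙 _), D₀.pt_r₁ _⟩
    rw [map_one, ← h1, ← hPP]
    change pull _ (pull _ _) = pull _ (pull _ _)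
    rw [← pull_comp, ← pull_comp, axis₁]
  have h₂ : ∃ a : (GTor.ofMod (A ⊗ A) P).obj A, (GTor.ofMod (A ⊗ A) P).pt a = lift (𝟙 A) 1 := by
    rw [exists_obj_iff hP]
    apply hinj
    have h1 : pl (lift (𝟙 (Red.bc k A)) (1 : Red.bc k A ⟶ Red.bc k A)) (mk P₀ hP₀) = 1 :=
      (exists_obj_iff hP₀ _).mp ⟨D₀.r₂ (𝟙 _), D₀.pt_r₂ _⟩
    rw [map_one, ← h1, ← hPP]
    change pull _ (pull _ _) = pull _ (pull _ _)
    rw [← pull_comp, ← pull_comp, axis₂]
  obtain ⟨D⟩ := exists_bir (GTor.ofMod (A ⊗ A) P) h₁ h₂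
  refine ⟨P, κ, D, hP, hκ, hκb, fun N => exists_atheta hP D hcA N ?_⟩
  apply hinj2
  have h1 := hcl N
  rw [← hPP] at h1
  change pull _ (pull _ _) = pull _ (pull _ _) at h1
  change pull _ (pull _ _) = pull _ (pull _ _)
  rw [← pull_comp, ← pull_comp, ← powL_pr2, ← powR_pr2, pull_comp, pull_comp]
  exact h1

end Dvr

end K388.DvrDatum
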