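import Groth.Agent.GrpSch.K270.MB.Shape3
import Groth.Agent.Sga3B.KerGrp

/-!
# Points of the finite part of the `N`-torsion

* `fac_of_finite`: points of the `N`-torsion with values in a finite `R`-scheme factor through the finite part.
* `fac_iff`: the finite part of level `N` is the `N`-torsion of the finite part of level `N'`, `N ∣ N'`.
* `fac_same`: the finite part is unique.
-/

set_option autoImplicit false
universe u
open CategoryTheory CategoryTheory.Limits MonoidalCategory CartesianMonoidalCategory MonObj AlgebraicGeometry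
open K270.MB

noncomputable section

namespace K388.FinPart

section Alg

theorem comap_eq {R B : Type u} [CommRing R] [IsLocalRing R] [CommRing B] (φ : R →+* B) (n : ℕ)
    (q : PrimeSpectrum (B ⧸ ((IsLocalRing.maximalIdeal R) ^ n).map φ)) :
    PrimeSpectrum.comap ((Ideal.Quotient.mk (((IsLocalRing.maximalIdeal R) ^ n).map φ)).comp φ) q =
      IsLocalRing.closedPoint R := by
  apply PrimeSpectrum.ext
  have hle : IsLocalRing.maximalIdeal R ≤
      (PrimeSpectrum.comap ((Ideal.Quotient.mk (((IsLocalRing.maximalIdeal R) ^ n).map φ)).comp φ) q).asIdeal := by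
    intro r hr
    rw [PrimeSpectrum.comap_asIdeal, Ideal.mem_comap]
    apply q.2.mem_of_pow_mem n
    rw [← map_pow, RingHom.comp_apply]
    rw [(Ideal.Quotient.eq_zero_iff_mem).mpr (Ideal.mem_map_of_mem φ (Ideal.pow_mem_pow hr n))]
    exact q.asIdeal.zero_mem
  exact ((IsLocalRing.maximalIdeal.isMaximal R).eq_of_le
    (PrimeSpectrum.comap ((Ideal.Quotient.mk (((IsLocalRing.maximalIdeal R) ^ n).map φ)).comp φ) q).2.ne_top hle).symm

theorem eq_zero_of_mem {R B : Type u} [CommRing R] [IsLocalRing R] [IsNoetherianRing R] [CommRing B] (φ : R →+* B)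
    (hφ : φ.Finite) (b : B) (h : ∀ n : ℕ, b ∈ ((IsLocalRing.maximalIdeal R) ^ n).map φ) : b = 0 := by
  let _ := φ.toAlgebra
  have : Module.Finite R B := hφ
  have h1 := Ideal.iInf_pow_smul_eq_bot_of_isLocalRing (R := R) (M := B) (I := IsLocalRing.maximalIdeal R)
    (IsLocalRing.maximalIdeal.isMaximal R).ne_top
  have h2 : b ∈ (⨅ i : ℕ, (IsLocalRing.maximalIdeal R) ^ i • ⊤ : Submodule R B) := by
    rw [Submodule.mem_iInf]
    intro n
    rw [Ideal.smul_top_eq_map]
    exact h n
  rw [h1] at h2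
  exact h2

end Alg

section Fac

variable {S : Scheme.{u}}

theorem fac_comp {T T' G H : Over S} {i : H ⟶ G} {x : T ⟶ G} (h : Fac i x) (g : T' ⟶ T) : Fac i (g ≫ x) := by
  obtain ⟨y, rfl⟩ := h
  exact ⟨g ≫ y, Category.assoc _ _ _⟩

theorem comp_pow'' {T T' G : Over S} [GrpObj G] (g : T' ⟶ T) (x : T ⟶ G) (n : ℕ) : g ≫ (x ^ n) = (g ≫ x) ^ n := by
  induction n with
  | zero => rw [pow_zero, pow_zero, MonObj.comp_one]
  | succ n ih => rw [pow_succ, pow_succ, MonObj.comp_mul, ih]

end Fac

section Main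

variable {R : Type u} [CommRing R] [IsLocalRing R] {A : Over (Spec (CommRingCat.of R))} [GrpObj A]

theorem fac_spec [IsNoetherianRing R] {N : ℕ} {F : Over (Spec (CommRingCat.of R))} [GrpObj F] {f : F ⟶ A}
    (hf : IsFinPart R A N f) (B : CommRingCat.{u}) (φ : CommRingCat.of R ⟶ B) (hφ : φ.hom.Finite)
    (x : Over.mk (Spec.map φ) ⟶ A) (hx : x ^ N = 1) : Fac f x := by
  have hc := hf.closed
  let j : pullback x.left f.left ⟶ Spec B := pullback.fst x.left f.left
  have hj : IsClosedImmersion j := inferInstance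
  have hinj : Function.Injective j.appTop := by
    rw [injective_iff_map_eq_zero j.appTop.hom]
    intro b hb
    have key : ∀ n : ℕ, (Scheme.ΓSpecIso B).hom b ∈ ((IsLocalRing.maximalIdeal R) ^ n).map φ.hom := by
      intro n
      let I : Ideal B := ((IsLocalRing.maximalIdeal R) ^ n).map φ.hom
      let m : B ⟶ CommRingCat.of (B ⧸ I) := CommRingCat.ofHom (Ideal.Quotient.mk I)
      let g : Over.mk (Spec.map m ≫ Spec.map φ) ⟶ Over.mk (Spec.map φ) := Over.homMk (Spec.map m) rfl
      have hg : Fac f (g ≫ x) := by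
        apply hf.cl
        · rw [← comp_pow'', hx, MonObj.comp_one]
        · intro t
          change (Spec.map m ≫ Spec.map φ) t = _
          rw [← Spec.map_comp]
          exact comap_eq φ.hom n t
      obtain ⟨y, hy⟩ := hg
      have hy' : y.left ≫ f.left = Spec.map m ≫ x.left := congrArg (fun z => z.left) hy
      let l : Spec (CommRingCat.of (B ⧸ I)) ⟶ pullback x.left f.left := pullback.lift (Spec.map m) y.left hy'.symm
      have hl : l ≫ j = Spec.map m := pullback.lift_fst _ _ _
      have h1 : (Spec.map m).appTop b = 0 := by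
        rw [← hl, Scheme.Hom.comp_appTop, CommRingCat.comp_apply]
        change l.appTop.hom (j.appTop.hom b) = 0
        rw [hb, map_zero]
      have h2 : (Scheme.ΓSpecIso (CommRingCat.of (B ⧸ I))).hom ((Spec.map m).appTop b) = m ((Scheme.ΓSpecIso B).hom b) := by
        have := Scheme.ΓSpecIso_naturality m
        exact congrArg (fun z => z.hom b) this
      rw [h1, map_zero] at h2
      exact (Ideal.Quotient.eq_zero_iff_mem).mp h2.symm
    have h3 := eq_zero_of_mem φ.hom hφ _ key
    have h4 : (Scheme.ΓSpecIso B).inv ((Scheme.ΓSpecIso B).hom b) = b := by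
      rw [← CommRingCat.comp_apply, Iso.hom_inv_id]; rfl
    rw [← h4, h3, map_zero]
  have hiso : IsIso j := IsClosedImmersion.isIso_of_injective_of_isAffine hinj
  refine ⟨Over.homMk (inv j ≫ pullback.snd x.left f.left) ?_, ?_⟩
  · rw [Category.assoc, ← Over.w f, ← pullback.condition_assoc, Over.w x]
    exact IsIso.inv_hom_id_assoc _ _
  · ext1
    change (inv j ≫ pullback.snd x.left f.left) ≫ f.left = x.left
    rw [Category.assoc, ← pullback.condition]
    exact IsIso.inv_hom_id_assoc _ _

/-- (i) Points of the `N`-torsion with values in a finite `R`-scheme factor through the finite part. -/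
theorem fac_of_finite [IsNoetherianRing R] {N : ℕ} {F : Over (Spec (CommRingCat.of R))} [GrpObj F] {f : F ⟶ A}
    (hf : IsFinPart R A N f) {T : Over (Spec (CommRingCat.of R))} (hT : IsFinite T.hom) (x : T ⟶ A) (hx : x ^ N = 1) :
    Fac f x := by
  have haff : IsAffine T.left := isAffine_of_isAffineHom T.hom
  let φ : CommRingCat.of R ⟶ Γ(T.left, ⊤) := (Scheme.ΓSpecIso (CommRingCat.of R)).inv ≫ T.hom.appTop
  have h0 : T.left.isoSpec.inv ≫ T.hom = Spec.map φ := by
    rw [← Scheme.isoSpec_inv_naturality, Scheme.isoSpec_Spec_inv, ← Spec.map_comp]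
  have h0' : T.left.isoSpec.hom ≫ Spec.map φ = T.hom := by rw [← h0, Iso.hom_inv_id_assoc]
  have hφ : φ.hom.Finite := by
    rw [← IsFinite.SpecMap_iff, ← h0]
    infer_instance
  let e : Over.mk (Spec.map φ) ⟶ T := Over.homMk T.left.isoSpec.inv h0
  let e' : T ⟶ Over.mk (Spec.map φ) := Over.homMk T.left.isoSpec.hom h0'
  have he : e' ≫ e = 𝟙 T := by
    ext1
    exact T.left.isoSpec.hom_inv_id
  have h1 := fac_spec hf _ φ hφ (e ≫ x) (by rw [← comp_pow'', hx, MonObj.comp_one])
  have h2 := fac_comp h1 e'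
  rwa [← Category.assoc, he, Category.id_comp] at h2

/-- The inclusion of finite parts. -/
theorem fac_of_dvd [IsNoetherianRing R] {N N' : ℕ} (hN : N ∣ N') {F F' : Over (Spec (CommRingCat.of R))} [GrpObj F]
    [GrpObj F'] {f : F ⟶ A} {f' : F' ⟶ A} (hf : IsFinPart R A N f) (hf' : IsFinPart R A N' f') : Fac f' f := by
  apply fac_of_finite hf' hf.finite
  obtain ⟨c, rfl⟩ := hN
  rw [pow_mul, hf.pow, one_pow]

/-- (ii) The finite part of level `N` is the `N`-torsion of the finite part of level `N'`. -/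
theorem fac_iff [IsNoetherianRing R] [IsSeparated A.hom] {N N' : ℕ} (hN : N ∣ N')
    {F F' : Over (Spec (CommRingCat.of R))} [GrpObj F] [GrpObj F'] {f : F ⟶ A} {f' : F' ⟶ A}
    (hf : IsFinPart R A N f) (hf' : IsFinPart R A N' f') {T : Over (Spec (CommRingCat.of R))} (x : T ⟶ A) :
    Fac f x ↔ Fac f' x ∧ x ^ N = 1 := by
  constructor
  · rintro ⟨y, rfl⟩
    exact ⟨fac_comp (fac_of_dvd hN hf hf') y, by rw [← comp_pow'', hf.pow, MonObj.comp_one]⟩
  · rintro ⟨⟨y, rfl⟩, hx⟩
    have hsep : IsClosedImmersion (Groth.Agent.Sga3B.KerGrp.kerι (f' ^ N)).left := inferInstance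
    have hfin : IsFinite (Groth.Agent.Sga3B.KerGrp.kerObj (f' ^ N)).hom := by
      have := hf'.finite
      rw [← Over.w (Groth.Agent.Sga3B.KerGrp.kerι (f' ^ N))]
      infer_instance
    have h1 : Fac f (Groth.Agent.Sga3B.KerGrp.kerι (f' ^ N) ≫ f') := by
      apply fac_of_finite hf hfin
      rw [← comp_pow'', Groth.Agent.Sga3B.KerGrp.kerι_comp]
    obtain ⟨t, rfl⟩ := Groth.Agent.Sga3B.KerGrp.exists_lift (f' ^ N) y (by rw [comp_pow'', hx])
    rw [Category.assoc]
    exact fac_comp h1 t

/-- (iii) The finite part is unique. -/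
theorem fac_same [IsNoetherianRing R] {N : ℕ} {F F' : Over (Spec (CommRingCat.of R))} [GrpObj F] [GrpObj F']
    {f : F ⟶ A} {f' : F' ⟶ A} (hf : IsFinPart R A N f) (hf' : IsFinPart R A N f')
    {T : Over (Spec (CommRingCat.of R))} (x : T ⟶ A) : Fac f x ↔ Fac f' x := by
  constructor
  · rintro ⟨y, rfl⟩
    exact fac_comp (fac_of_dvd dvd_rfl hf hf') y
  · rintro ⟨y, rfl⟩
    exact fac_comp (fac_of_dvd dvd_rfl hf' hf) y

end Main

end K388.FinPart
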