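import Groth.Agent.GrpSch.K388.ExtUnit
import Groth.Agent.Sga7.H260.Ext
import Groth.Agent.ThetaGrp.K999.Scal
import Groth.Agent.ThetaGrp.K999.Iso

/-!
# Extension of cartesian arrows from the generic fibre

`p : Y ⟶ Spec V` is smooth with irreducible special fibre over a discrete valuation ring, `g : Z ⟶ Y` its generic
fibre.  In the total category `E` of modules on schemes:

* `exists_obj`: an invertible `(Z, L₀)` extends to `(Y, L)`.
* `exists_arrow`: a cartesian arrow `(Z, L₀) ⟶ (W, N)` over `Z ⟶ Y ⟶ W` extends to `(Y, L)` up to a constant.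
* `exists_arrow_rig`: it extends if it does so along a section.
* `ext_gen`: uniqueness.
-/

set_option autoImplicit false
universe u

open CategoryTheory CategoryTheory.Limits AlgebraicGeometry Opposite TopologicalSpace
open Groth.Agent Groth.Agent.Fdesc.LocGen K388.ExtUnit K999.Cart K999.EDesc K999.Scal K999.VIso

namespace K388.ExtCart

section Gen

variable {X Y Z : Scheme.{u}} {L : X.Modules} {M : Y.Modules} {K : Z.Modules}

/-- A cartesian arrow with invertible target has invertible source. -/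
theorem isInvertible_of_cart {φ : ob X L ⟶ ob Y M} (hφ : IsCart φ) (hM : PicF.IsInvertible M) :
    PicF.IsInvertible L := by
  obtain ⟨e, -⟩ := exists_iso_of_cart (isCart_cart φ.base M) hφ rfl rfl
  exact isInvertible_of_iso e (isInvertible_pullback _ hM)

theorem mu_cart (L : X.Modules) {v : Γ(X, ⊤)} (hv : IsUnit v) : IsCart (mu L v) := by
  obtain ⟨w, hw⟩ := hv.exists_right_inv
  have : IsIso (mu L v) := ⟨mu L w, by rw [← mu_mul, hw, mu_one], by rw [← mu_mul, mul_comm, hw, mu_one]⟩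
  exact IsCart.of_isIso _

theorem mu_comp_base (L : X.Modules) (v : Γ(X, ⊤)) (φ : ob X L ⟶ ob Y M) : (mu L v ≫ φ).base = φ.base :=
  Category.id_comp φ.base

/-- Two cartesian arrows over the same morphism differ by a unit. -/
theorem exists_unit_of_cart {φ ψ : ob X L ⟶ ob Y M} (hφ : IsCart φ) (hψ : IsCart ψ) (hb : ψ.base = φ.base)
    (hL : PicF.IsInvertible L) : ∃ v : Γ(X, ⊤)ˣ, ψ = mu L v ≫ φ := by
  have w : ψ.base = 𝟙 X ≫ φ.base := by
    rw [hb]
    exact (Category.id_comp φ.base).symm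
  have w' : φ.base = 𝟙 X ≫ ψ.base := by
    rw [hb]
    exact (Category.id_comp φ.base).symm
  obtain ⟨v, hv⟩ := exists_mu hL (hφ.lift (a' := ob X L) (𝟙 X) ψ w) (hφ.lift_base _ _ _)
  obtain ⟨v', hv'⟩ := exists_mu hL (hψ.lift (a' := ob X L) (𝟙 X) φ w') (hψ.lift_base _ _ _)
  have h1 : mu L v ≫ φ = ψ := by rw [← hv]; exact hφ.lift_comp _ _ _
  have h2 : mu L v' ≫ ψ = φ := by rw [← hv']; exact hψ.lift_comp _ _ _
  have h3 : v' * v = 1 := by
    apply mu_inj hL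
    apply hφ.ext
    · exact ((mu_base L _).trans (mu_base L _).symm)
    · rw [mu_mul, mu_one, Category.assoc, h1, h2, Category.id_comp]
  exact ⟨⟨v, v', by rw [mul_comm]; exact h3, h3⟩, h1.symm⟩

theorem mu_cancel {φ : ob X L ⟶ ob Y M} (hφ : IsCart φ) (hL : PicF.IsInvertible L) {v w : Γ(X, ⊤)}
    (h : mu L v ≫ φ = mu L w ≫ φ) : v = w :=
  mu_inj hL (hφ.ext rfl h)

end Gen

variable {V K : Type u} [CommRing V] [IsDomain V] [IsDiscreteValuationRing V] [Field K] [Algebra V K]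
  [IsFractionRing V K] {Y Z W : Scheme.{u}} (p : Y ⟶ Spec (CommRingCat.of V)) {g : Z ⟶ Y}
  {k : Z ⟶ Spec (CommRingCat.of K)}
  (h : IsPullback g k p (Spec.map (CommRingCat.ofHom (algebraMap V K))))

include h in
/-- Invertible modules on `Y` which are isomorphic on the generic fibre are isomorphic. -/
theorem nonempty_iso [Smooth p]
    (hirr : IsIrreducible (p ⁻¹' {(IsLocalRing.closedPoint V : PrimeSpectrum V)} : Set Y))
    {L M : Y.Modules} (hL : PicF.IsInvertible L) (hM : PicF.IsInvertible M)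
    (e : Nonempty ((Scheme.Modules.pullback g).obj L ≅ (Scheme.Modules.pullback g).obj M)) :
    Nonempty (L ≅ M) := by
  obtain ⟨ϖ, hϖ⟩ := IsDiscreteValuationRing.exists_irreducible V
  have hg : IsOpenImmersion g := Models.DVRGeneric.isOpenImmersion_of_isPullback h
  obtain ⟨θ⟩ := Fga.DVRGeom.nonempty_restrict_iso (Fga.DVRGeom.opensRange_eq p h hϖ) e
  have hirr' : IsIrreducible ((Y.basicOpen (Fga.DVRGeom.scal p ϖ) : Set Y)ᶜ) := by
    have h1 : ((Y.basicOpen (Fga.DVRGeom.scal p ϖ) : Set Y)ᶜ) =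
        p ⁻¹' {(IsLocalRing.closedPoint V : PrimeSpectrum V)} := by
      ext y
      exact Fga.DVRGeom.notMem_basicOpen_iff p hϖ y
    rw [h1]
    exact hirr
  refine Fga.GenIso.nonempty_iso_of_generic_iso (π := Fga.DVRGeom.scal p ϖ)
    (Fga.DVRGeom.ores_tr_injective p hϖ.ne_zero) hL hM θ (Fga.DVRGeom.isPrime_span_ge p hϖ) ?_
  intro n hn
  obtain ⟨y₀, hy₀⟩ := hirr'.nonempty
  refine ⟨fun _ => n y₀, IsLocallyConstant.const _, fun y hy => ?_⟩
  obtain ⟨W₀, hyW₀, hW₀⟩ := hn y₀ hy₀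
  obtain ⟨W, hyW, hW⟩ := hn y hy
  obtain ⟨z, hz, hzW₀, hzW⟩ := hirr'.2 (W₀ : Set Y) (W : Set Y) W₀.2 W.2
    ⟨y₀, hy₀, hyW₀⟩ ⟨y, hy, hyW⟩
  rw [← hW₀ z hzW₀ hz, ← hW z hzW hz]

include h in
/-- **Extension of objects.** -/
theorem exists_obj [Smooth p] (L₀ : Z.Modules) (hL₀ : PicF.IsInvertible L₀) :
    ∃ (L : Y.Modules) (κ : ob Z L₀ ⟶ ob Y L), PicF.IsInvertible L ∧ IsCart κ ∧ κ.base = g := by
  have hg : IsOpenImmersion g := Models.DVRGeneric.isOpenImmersion_of_isPullback h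
  have hn : IsLocallyNoetherian Y := LocallyOfFiniteType.isLocallyNoetherian p
  obtain ⟨d, hd⟩ := Sga7.H260.Ext.exists_restrict_iso g (fun y _ =>
    have := Fga.DVRGeom.isRegularLocalRing_stalk p y
    (Groth.Agent.S2821.result (Y.presheaf.stalk y)).2) (Grpsch.PicGrp.mk L₀ hL₀)
  obtain ⟨L, hL, rfl⟩ := Grpsch.PicGrp.exists_mk d
  rw [Grpsch.PicGrp.pull_mk, Grpsch.PicGrp.mk_eq_iff] at hd
  obtain ⟨e⟩ := hd
  refine ⟨L, vert e.inv ≫ cart g L, hL, (IsCart.of_isIso _).comp (isCart_cart g L), ?_⟩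
  exact Category.id_comp g

include h in
/-- **Extension of cartesian arrows**, up to a constant. -/
theorem exists_arrow [Smooth p]
    (hirr : IsIrreducible (p ⁻¹' {(IsLocalRing.closedPoint V : PrimeSpectrum V)} : Set Y))
    {L₀ : Z.Modules} {L : Y.Modules} {N : W.Modules} (hL : PicF.IsInvertible L) (hN : PicF.IsInvertible N)
    {κ : ob Z L₀ ⟶ ob Y L} (hκ : IsCart κ) (hκb : κ.base = g) (f : Y ⟶ W)
    {φ : ob Z L₀ ⟶ ob W N} (hφ : IsCart φ) (hφb : φ.base = g ≫ f) :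
    ∃ (c : Kˣ) (ψ : ob Y L ⟶ ob W N), IsCart ψ ∧ ψ.base = f ∧ κ ≫ ψ = mu L₀ (cst k c : Γ(Z, ⊤)) ≫ φ := by
  have hL₀ : PicF.IsInvertible L₀ := isInvertible_of_cart hκ hL
  obtain ⟨e₁, -⟩ := exists_iso_of_cart (f := g) (isCart_cart g L) hκ rfl hκb
  obtain ⟨e₂, -⟩ := exists_iso_of_cart (f := g ≫ f) ((isCart_cart g ((Scheme.Modules.pullback f).obj N)).comp
    (isCart_cart f N)) hφ rfl hφb
  obtain ⟨e⟩ := nonempty_iso p h hirr hL (isInvertible_pullback f hN) ⟨e₁ ≪≫ e₂.symm⟩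
  let ψ₀ : ob Y L ⟶ ob W N := vert e.hom ≫ cart f N
  have hψ₀ : IsCart ψ₀ := (IsCart.of_isIso _).comp (isCart_cart f N)
  have hψ₀b : ψ₀.base = f := Category.id_comp f
  obtain ⟨v, hv⟩ := exists_unit_of_cart hφ (hκ.comp hψ₀) (by
    rw [hφb]
    change κ.base ≫ ψ₀.base = _
    rw [hψ₀b, hκb]) hL₀
  obtain ⟨c, u, hcu⟩ := exists_unit_dvr p h hirr v
  refine ⟨c⁻¹, mu L ((u⁻¹ : Γ(Y, ⊤)ˣ) : Γ(Y, ⊤)) ≫ ψ₀, (mu_cart L (Units.isUnit _)).comp hψ₀, ?_, ?_⟩
  · rw [mu_comp_base, hψ₀b]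
  · have hb : ∀ w : Γ(Y, ⊤), κ ≫ mu L w = mu L₀ (g.appTop w) ≫ κ := by
      intro w
      subst hκb
      exact mu_nat κ w
    rw [← Category.assoc, hb, Category.assoc, hv, ← Category.assoc, ← mu_mul]
    congr 2
    have h1 : v = (cst k c)⁻¹ * Units.map (g.appTop.hom : Γ(Y, ⊤) →* Γ(Z, ⊤)) u := by
      rw [hcu, inv_mul_cancel_left]
    have h2 : Units.map (g.appTop.hom : Γ(Y, ⊤) →* Γ(Z, ⊤)) u⁻¹ * v = cst k c⁻¹ := by
      rw [h1, map_inv, map_inv]
      exact mul_inv_cancel_comm_assoc _ _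
    exact congrArg Units.val h2

include h in
/-- **Uniqueness of extensions.** -/
theorem ext_gen [Flat p] {L₀ : Z.Modules} {L : Y.Modules} {N : W.Modules} (hL : PicF.IsInvertible L)
    {κ : ob Z L₀ ⟶ ob Y L} (hκ : IsCart κ) (hκb : κ.base = g)
    {ψ ψ' : ob Y L ⟶ ob W N} (hψ : IsCart ψ) (hψ' : IsCart ψ') (hb : ψ.base = ψ'.base)
    (hκψ : κ ≫ ψ = κ ≫ ψ') : ψ = ψ' := by
  have hL₀ : PicF.IsInvertible L₀ := isInvertible_of_cart hκ hL
  obtain ⟨v, rfl⟩ := exists_unit_of_cart hψ' hψ hb hL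
  have hb : κ ≫ mu L v = mu L₀ (g.appTop v) ≫ κ := by
    subst hκb
    exact mu_nat κ _
  rw [← Category.assoc, hb, Category.assoc] at hκψ
  have h1 : g.appTop v = 1 := by
    apply mu_cancel (hκ.comp hψ') hL₀
    rw [hκψ, mu_one, Category.id_comp]
  have h2 : (v : Γ(Y, ⊤)) = 1 := appTop_injective p h (h1.trans (map_one _).symm)
  rw [h2, mu_one, Category.id_comp]

include h in
/-- **Extension of rigidified cartesian arrows.** -/
theorem exists_arrow_rig [Smooth p]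
    (hirr : IsIrreducible (p ⁻¹' {(IsLocalRing.closedPoint V : PrimeSpectrum V)} : Set Y))
    {L₀ : Z.Modules} {L : Y.Modules} {N : W.Modules} (hL : PicF.IsInvertible L) (hN : PicF.IsInvertible N)
    {κ : ob Z L₀ ⟶ ob Y L} (hκ : IsCart κ) (hκb : κ.base = g) (f : Y ⟶ W)
    {φ : ob Z L₀ ⟶ ob W N} (hφ : IsCart φ) (hφb : φ.base = g ≫ f)
    {M₀ : (Spec (CommRingCat.of K)).Modules} {M : (Spec (CommRingCat.of V)).Modules}
    {ι : ob _ M₀ ⟶ ob _ M} (hιb : ι.base = Spec.map (CommRingCat.ofHom (algebraMap V K)))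
    {ε : ob _ M ⟶ ob Y L} (hε : IsCart ε) {ε₀ : ob _ M₀ ⟶ ob Z L₀} (hε₀ : IsCart ε₀) (hε₀b : ε₀.base ≫ k = 𝟙 _)
    (hκε : ε₀ ≫ κ = ι ≫ ε) {ρ : ob _ M ⟶ ob W N} (hρ : IsCart ρ) (hρb : ρ.base = ε.base ≫ f)
    (hρφ : ι ≫ ρ = ε₀ ≫ φ) :
    ∃ ψ : ob Y L ⟶ ob W N, IsCart ψ ∧ ψ.base = f ∧ κ ≫ ψ = φ := by
  obtain ⟨c, ψ, hψ, hψb, hκψ⟩ := exists_arrow p h hirr hL hN hκ hκb f hφ hφb
  have hL₀ : PicF.IsInvertible L₀ := isInvertible_of_cart hκ hL
  have hM : PicF.IsInvertible M := isInvertible_of_cart hε hL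
  have hM₀ : PicF.IsInvertible M₀ := isInvertible_of_cart hε₀ hL₀
  obtain ⟨w, hw⟩ := exists_unit_of_cart (hρ) (hε.comp hψ) (by
    rw [hρb]
    change ε.base ≫ ψ.base = _
    rw [hψb]) hM
  -- compare on the generic point
  have h1 : ι ≫ ε ≫ ψ = mu M₀ ((Spec.map (CommRingCat.ofHom (algebraMap V K))).appTop w) ≫ ε₀ ≫ φ := by
    have hb : ι ≫ mu M w = mu M₀ ((Spec.map (CommRingCat.ofHom (algebraMap V K))).appTop w) ≫ ι := by
      rw [← hιb]
      exact mu_nat ι _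
    rw [hw, ← Category.assoc, hb, Category.assoc, hρφ]
  have h2 : ι ≫ ε ≫ ψ = mu M₀ ((Scheme.ΓSpecIso (CommRingCat.of K)).inv (c : K)) ≫ ε₀ ≫ φ := by
    have hb : ε₀ ≫ mu L₀ (cst k c : Γ(Z, ⊤)) =
        mu M₀ ((Scheme.ΓSpecIso (CommRingCat.of K)).inv (c : K)) ≫ ε₀ := by
      rw [mu_nat, cst_val]
      congr 2
      have h3 := congrArg (fun f : Spec (CommRingCat.of K) ⟶ Spec (CommRingCat.of K) =>
        f.appTop ((Scheme.ΓSpecIso (CommRingCat.of K)).inv (c : K))) hε₀b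
      dsimp only at h3
      rw [Scheme.Hom.comp_appTop, Scheme.Hom.id_appTop] at h3
      exact h3
    rw [← Category.assoc, ← hκε, Category.assoc, hκψ, ← Category.assoc, hb, Category.assoc]
  have h3 : (Spec.map (CommRingCat.ofHom (algebraMap V K))).appTop w =
      (Scheme.ΓSpecIso (CommRingCat.of K)).inv (c : K) :=
    mu_cancel (hε₀.comp hφ) hM₀ (h1.symm.trans h2)
  -- `c` comes from a unit of `V`
  let w' : Γ(Y, ⊤) := p.appTop w
  have hw' : IsUnit w' := (Units.isUnit w).map p.appTop.hom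
  obtain ⟨w₁, hw₁⟩ := hw'.exists_right_inv
  have h4 : g.appTop w' = (cst k c : Γ(Z, ⊤)) := by
    have h5 : (g ≫ p).appTop w = (k ≫ Spec.map (CommRingCat.ofHom (algebraMap V K))).appTop w := by rw [h.w]
    rw [Scheme.Hom.comp_appTop, Scheme.Hom.comp_appTop] at h5
    refine Eq.trans h5 ?_
    change k.appTop ((Spec.map (CommRingCat.ofHom (algebraMap V K))).appTop w) = _
    rw [h3]
    rfl
  refine ⟨mu L w₁ ≫ ψ, (mu_cart L (IsUnit.of_mul_eq_one w' (by rw [mul_comm]; exact hw₁))).comp hψ, ?_, ?_⟩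
  · rw [mu_comp_base, hψb]
  · have hb : κ ≫ mu L w₁ = mu L₀ (g.appTop w₁) ≫ κ := by
      subst hκb
      exact mu_nat κ _
    rw [← Category.assoc, hb, Category.assoc, hκψ, ← Category.assoc, ← mu_mul, ← h4, ← map_mul, mul_comm, hw₁,
      map_one, mu_one, Category.id_comp]

end K388.ExtCart
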