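import Groth.Agent.Fga.DVRGeom

/-!
# Units on the generic fibre

Let `π` be a global function on `Y` such that `D(π)` is schematically dense, `π` generates a prime ideal in the local
rings at the points outside `D(π)`, and the complement of `D(π)` is irreducible.  Then every unit on `D(π)` is a power
of `π` times a unit on `Y` (`exists_unit`).  `exists_unit_dvr`: for `Y` smooth over a discrete valuation ring with
irreducible special fibre, the units on the generic fibre are constants times units on `Y`.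
-/

set_option autoImplicit false
universe u

open CategoryTheory CategoryTheory.Limits AlgebraicGeometry Opposite TopologicalSpace
open Groth.Agent Groth.Agent.Fdesc.LocGen Groth.Agent.Fga.GenIso

namespace K388.ExtUnit

variable {Y : Scheme.{u}} {π : Γ(Y, ⊤)} {v : Γ(Y, Y.basicOpen π)}

/-- On `W` the function `π ^ n * v` extends to a unit. -/
def UE (v : Γ(Y, Y.basicOpen π)) (W : Y.Opens) (n : ℤ) : Prop :=
  ∃ u : Γ(Y, W), IsUnit u ∧
    ores (tr_le π W) u = ((pu π (tr_le_D π W) ^ n : Γ(Y, tr π W)ˣ) : Γ(Y, tr π W)) * ores (tr_le_D π W) v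

theorem UE.mono {W W' : Y.Opens} {n : ℤ} (hn : UE v W n) (h : W' ≤ W) : UE v W' n := by
  obtain ⟨u, hu, h1⟩ := hn
  refine ⟨ores h u, hu.map _, ?_⟩
  have h2 := congr(ores (tr_mono π h) $h1)
  rw [map_mul, ores_pu_zpow, ores_ores, ores_ores] at h2
  rw [ores_ores]
  exact h2

variable (hD : ∀ (U : Y.Opens) (a b : Γ(Y, U)), ores (tr_le π U) a = ores (tr_le π U) b → a = b)

include hD in
theorem UE.unique_aux {W : Y.Opens} {y : Y} (hy : y ∈ W) (hyD : y ∉ Y.basicOpen π) {n : ℤ} {k : ℕ}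
    (hn : UE v W n) (hm : UE v W (n + k)) : k = 0 := by
  obtain ⟨a, ha, h1⟩ := hn
  obtain ⟨b, hb, h2⟩ := hm
  have h5 : b = ores (le_top : W ≤ ⊤) π ^ k * a := by
    apply hD
    rw [h2, map_mul, h1, map_pow, ores_ores, zpow_add, zpow_natCast, Units.val_mul, Units.val_pow_eq_pow_val,
      pu_val]
    ring
  by_contra hk
  apply hyD
  have h6 : IsUnit (ores (le_top : W ≤ ⊤) π ^ k) := by
    rw [h5] at hb
    exact isUnit_of_mul_isUnit_left hb
  have h7 := (isUnit_pow_iff hk).mp h6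
  have h8 := h7.map (Y.presheaf.germ W y hy).hom
  rw [Scheme.mem_basicOpen _ _ _ (show y ∈ (⊤ : Y.Opens) from trivial)]
  have h9 : (Y.presheaf.germ W y hy) (ores (le_top : W ≤ ⊤) π) = Y.presheaf.germ ⊤ y trivial π :=
    TopCat.Presheaf.germ_res_apply Y.presheaf (homOfLE le_top) y hy π
  rwa [← h9]

include hD in
theorem UE.unique {W W' : Y.Opens} {y : Y} (hy : y ∈ W) (hy' : y ∈ W') (hyD : y ∉ Y.basicOpen π)
    {n m : ℤ} (hn : UE v W n) (hm : UE v W' m) : n = m := by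
  have hn' := hn.mono (inf_le_left : W ⊓ W' ≤ W)
  have hm' := hm.mono (inf_le_right : W ⊓ W' ≤ W')
  rcases le_total n m with h | h
  · obtain ⟨k, rfl⟩ := Int.exists_add_of_le h
    rw [UE.unique_aux hD (show y ∈ W ⊓ W' from ⟨hy, hy'⟩) hyD hn' hm']
    simp
  · obtain ⟨k, rfl⟩ := Int.exists_add_of_le h
    rw [UE.unique_aux hD (show y ∈ W ⊓ W' from ⟨hy, hy'⟩) hyD hm' hn']
    simp

include hD in
/-- Existence of exponents. -/
theorem exists_ue (hv : IsUnit v) {y : Y}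
    (hp : (Ideal.span {ge (show y ∈ (⊤ : Y.Opens) from trivial) π}).IsPrime) :
    ∃ (W : Y.Opens) (n : ℤ), y ∈ W ∧ UE v W n := by
  obtain ⟨W, hW, hyW, -⟩ := exists_isAffineOpen_mem_and_subset (U := (⊤ : Y.Opens))
    (show y ∈ (⊤ : Y.Opens) from trivial)
  obtain ⟨v', hv'⟩ := hv.exists_right_inv
  obtain ⟨N, a, ha⟩ := exists_ores_eq hW (ores (tr_le_D π W) v)
  obtain ⟨M, b, hb⟩ := exists_ores_eq hW (ores (tr_le_D π W) v')
  have hvv : ores (tr_le_D π W) v * ores (tr_le_D π W) v' = 1 := by rw [← map_mul, hv', map_one]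
  have hab : a * b = ores (le_top : W ≤ ⊤) π ^ (N + M) := by
    apply hD
    rw [map_mul, ha, hb, map_pow, ores_ores, pow_add]
    linear_combination (ores (le_top : tr π W ≤ ⊤) π ^ N * ores (le_top : tr π W ≤ ⊤) π ^ M) * hvv
  have hab' := congr(ge hyW $hab)
  rw [map_mul, map_pow, ge_ores] at hab'
  obtain ⟨w, i, hw, hwi⟩ := exists_unit_mul_pow (ge_regular hD) hp _ _ _ hab'
  obtain ⟨W₁, hyW₁, c, hc, rfl⟩ := exists_unit_of_ge_unit w hw
  have h2 : ge hyW a = ge hyW₁ (c * ores (le_top : W₁ ≤ ⊤) π ^ i) := by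
    rw [hwi, map_mul, map_pow, ge_ores]
  obtain ⟨W₂, h3, h4, hyW₂, h5⟩ := exists_ores_eq_of_ge_eq _ _ _ _ h2
  rw [map_mul, map_pow, ores_ores] at h5
  refine ⟨W₂, N - i, hyW₂, ores h4 c, hc.map _, ?_⟩
  have h7 := congr(ores (tr_mono π h3) $ha)
  rw [ores_ores, map_mul, map_pow, ores_ores, ores_ores] at h7
  have h8 := congr(ores (tr_le π W₂) $h5)
  rw [ores_ores, map_mul, map_pow, ores_ores, ores_ores] at h8
  rw [ores_ores, zpow_sub, zpow_natCast, zpow_natCast, Units.val_mul, Units.val_pow_eq_pow_val, pu_val]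
  have h9 : ores ((tr_le π W₂).trans h4) c *
      ((pu π (tr_le_D π W₂) ^ i : Γ(Y, tr π W₂)ˣ) : Γ(Y, tr π W₂)) =
      ores (le_top : tr π W₂ ≤ ⊤) π ^ N * ores ((tr_mono π h3).trans (tr_le_D π W)) v := by
    rw [Units.val_pow_eq_pow_val, pu_val, ← h8, h7]
  rw [← Units.eq_mul_inv_iff_mul_eq] at h9
  rw [h9]
  ring

include hD in
/-- **Units on `D(π)` are powers of `π` times units on `Y`.** -/
theorem exists_unit (hp : ∀ y : Y, y ∉ Y.basicOpen π →
      (Ideal.span {ge (show y ∈ (⊤ : Y.Opens) from trivial) π}).IsPrime)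
    (hirr : IsIrreducible ((Y.basicOpen π : Set Y)ᶜ)) (hv : IsUnit v) :
    ∃ (n : ℤ) (u : Γ(Y, ⊤)), IsUnit u ∧
      ores (le_top : Y.basicOpen π ≤ ⊤) u =
        ((pu π (le_refl _) ^ n : Γ(Y, Y.basicOpen π)ˣ) : Γ(Y, Y.basicOpen π)) * v := by
  classical
  choose W n hyW hn using fun (y : Y) (hy : y ∉ Y.basicOpen π) => exists_ue hD hv (hp y hy)
  obtain ⟨y₀, hy₀⟩ := hirr.nonempty
  have hconst : ∀ y (hy : y ∉ Y.basicOpen π), n y hy = n y₀ hy₀ := by
    intro y hy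
    obtain ⟨z, hz, hzW₀, hzW⟩ := hirr.2 (W y₀ hy₀ : Set Y) (W y hy : Set Y) (W y₀ hy₀).2 (W y hy).2
      ⟨y₀, hy₀, hyW _ _⟩ ⟨y, hy, hyW _ _⟩
    exact UE.unique hD hzW hzW₀ hz (hn y hy) (hn y₀ hy₀)
  set m := n y₀ hy₀ with hm
  let pm : Γ(Y, Y.basicOpen π) := ((pu π (le_refl _) ^ m : Γ(Y, Y.basicOpen π)ˣ) : Γ(Y, Y.basicOpen π)) * v
  have hpm : IsUnit pm := (Units.isUnit _).mul hv
  -- local sections
  have hloc : ∀ y : Y, ∃ (U : Y.Opens) (u : Γ(Y, U)), y ∈ U ∧ IsUnit u ∧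
      ores (tr_le π U) u = ores (tr_le_D π U) pm := by
    intro y
    by_cases hy : y ∈ Y.basicOpen π
    · exact ⟨Y.basicOpen π, pm, hy, hpm, rfl⟩
    · obtain ⟨u, hu, h⟩ := hn y hy
      refine ⟨W y hy, u, hyW y hy, hu, ?_⟩
      rw [h, hconst y hy, map_mul, ores_pu_zpow]
  choose U u hyU hu hres using hloc
  have hcov : (⊤ : Y.Opens) ≤ ⨆ y, U y := fun y _ => Opens.mem_iSup.mpr ⟨y, hyU y⟩
  obtain ⟨t, ht⟩ := ores_glue (V := ⊤) U (fun _ => le_top) hcov u (by
    intro i j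
    apply hD
    have h1 := congr(ores (tr_mono π (inf_le_left : U i ⊓ U j ≤ U i)) $(hres i))
    have h2 := congr(ores (tr_mono π (inf_le_right : U i ⊓ U j ≤ U j)) $(hres j))
    rw [ores_ores, ores_ores] at h1 h2
    rw [ores_ores, ores_ores, h1, h2])
  have htu : IsUnit t := by
    have h1 : ∀ y, ∃ w : Γ(Y, U y), u y * w = 1 := fun y => (hu y).exists_right_inv
    choose w hw using h1
    obtain ⟨t', ht'⟩ := ores_glue (V := ⊤) U (fun _ => le_top) hcov w (by
      intro i j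
      have h3 : ores (inf_le_left : U i ⊓ U j ≤ U i) (u i) = ores inf_le_right (u j) := by
        rw [← ht i, ← ht j, ores_ores, ores_ores]
      have h1 := congr(ores (inf_le_left : U i ⊓ U j ≤ U i) $(hw i))
      have h2 := congr(ores (inf_le_right : U i ⊓ U j ≤ U j) $(hw j))
      rw [map_mul, map_one] at h1 h2
      rw [← h3] at h2
      exact ((IsUnit.of_mul_eq_one _ h1).mul_right_inj).mp (h1.trans h2.symm))
    refine IsUnit.of_mul_eq_one t' (ores_ext U (fun _ => le_top) hcov fun y => ?_)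
    rw [map_mul, ht, ht', hw, map_one]
  refine ⟨m, t, htu, ?_⟩
  refine ores_ext (fun y : Y => U y ⊓ Y.basicOpen π) (fun _ => inf_le_right)
    (fun x hx => Opens.mem_iSup.mpr ⟨x, hyU x, hx⟩) fun y => ?_
  have h1 := congr(ores (show U y ⊓ Y.basicOpen π ≤ tr π (U y) by rw [tr_eq, inf_comm]) $(hres y))
  rw [← ht y, ores_ores, ores_ores, ores_ores] at h1
  rw [ores_ores]
  exact h1

section DVR

variable {V K : Type u} [CommRing V] [IsDomain V] [IsDiscreteValuationRing V] [Field K] [Algebra V K]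
  [IsFractionRing V K] {Y Z : Scheme.{u}} (p : Y ⟶ Spec (CommRingCat.of V)) {g : Z ⟶ Y}
  {k : Z ⟶ Spec (CommRingCat.of K)}
  (h : IsPullback g k p (Spec.map (CommRingCat.ofHom (algebraMap V K))))

/-- The constants on the generic fibre. -/
noncomputable def cst (k : Z ⟶ Spec (CommRingCat.of K)) : Kˣ →* Γ(Z, ⊤)ˣ :=
  Units.map ((k.appTop.hom.comp (Scheme.ΓSpecIso (CommRingCat.of K)).inv.hom : K →+* Γ(Z, ⊤)) : K →* Γ(Z, ⊤))

omit [Algebra V K] [IsFractionRing V K] in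
theorem cst_val (k : Z ⟶ Spec (CommRingCat.of K)) (c : Kˣ) :
    (cst k c : Γ(Z, ⊤)) = k.appTop ((Scheme.ΓSpecIso (CommRingCat.of K)).inv (c : K)) := rfl

include h in
omit [IsDiscreteValuationRing V] [IsDomain V] [IsFractionRing V K] in
theorem appTop_scal (a : V) : g.appTop (Fga.DVRGeom.scal p a) =
    k.appTop ((Scheme.ΓSpecIso (CommRingCat.of K)).inv (algebraMap V K a)) := by
  have h1 : (Scheme.ΓSpecIso (CommRingCat.of K)).inv (algebraMap V K a) =
      (Spec.map (CommRingCat.ofHom (algebraMap V K))).appTop ((Scheme.ΓSpecIso (CommRingCat.of V)).inv a) := by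
    exact congr($(Scheme.ΓSpecIso_inv_naturality (CommRingCat.ofHom (algebraMap V K))) a)
  have h2 : g ≫ p = k ≫ Spec.map (CommRingCat.ofHom (algebraMap V K)) := h.w
  have h3 : (g ≫ p).appTop ((Scheme.ΓSpecIso (CommRingCat.of V)).inv a) =
      (k ≫ Spec.map (CommRingCat.ofHom (algebraMap V K))).appTop ((Scheme.ΓSpecIso (CommRingCat.of V)).inv a) := by
    rw [h2]
  rw [Scheme.Hom.comp_appTop, Scheme.Hom.comp_appTop] at h3
  rw [h1]
  exact h3

include h in
/-- Functions on `Y` are determined by their restriction to the generic fibre. -/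
theorem appTop_injective [Flat p] : Function.Injective g.appTop := by
  obtain ⟨ϖ, hϖ⟩ := IsDiscreteValuationRing.exists_irreducible V
  have hg : IsOpenImmersion g := Models.DVRGeneric.isOpenImmersion_of_isPullback h
  have hr : g.opensRange = Y.basicOpen (Fga.DVRGeom.scal p ϖ) := Fga.DVRGeom.opensRange_eq p h hϖ
  intro a b hab
  apply Fga.DVRGeom.ores_tr_injective p hϖ.ne_zero
  have h1 : tr (Fga.DVRGeom.scal p ϖ) (⊤ : Y.Opens) ≤ g.opensRange := by
    rw [hr]; exact tr_le_D _ _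
  have hiso := g.isIso_app _ h1
  apply (ConcreteCategory.bijective_of_isIso (g.app (tr (Fga.DVRGeom.scal p ϖ) (⊤ : Y.Opens)))).1
  have h2 : ∀ c : Γ(Y, ⊤), g.app (tr (Fga.DVRGeom.scal p ϖ) (⊤ : Y.Opens)) (ores (tr_le _ _) c) =
      ores (show g ⁻¹ᵁ (tr (Fga.DVRGeom.scal p ϖ) (⊤ : Y.Opens)) ≤ ⊤ from le_top) (g.appTop c) := fun c =>
    congr($(g.naturality (homOfLE (tr_le (Fga.DVRGeom.scal p ϖ) (⊤ : Y.Opens))).op) c)
  rw [h2, h2, hab]

include h in
/-- **Units on the generic fibre** of a smooth scheme with irreducible special fibre over a discrete valuation ring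
are constants times units of the whole scheme. -/
theorem exists_unit_dvr [Smooth p]
    (hirr : IsIrreducible (p ⁻¹' {(IsLocalRing.closedPoint V : PrimeSpectrum V)} : Set Y))
    (v : Γ(Z, ⊤)ˣ) : ∃ (c : Kˣ) (u : Γ(Y, ⊤)ˣ),
      Units.map (g.appTop.hom : Γ(Y, ⊤) →* Γ(Z, ⊤)) u = cst k c * v := by
  obtain ⟨ϖ, hϖ⟩ := IsDiscreteValuationRing.exists_irreducible V
  have hg : IsOpenImmersion g := Models.DVRGeneric.isOpenImmersion_of_isPullback h
  have hr : g.opensRange = Y.basicOpen (Fga.DVRGeom.scal p ϖ) := Fga.DVRGeom.opensRange_eq p h hϖ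
  set π := Fga.DVRGeom.scal p ϖ with hπ
  have hpre : (⊤ : Z.Opens) ≤ g ⁻¹ᵁ (Y.basicOpen π) := by
    rw [← hr]
    exact fun x _ => ⟨x, rfl⟩
  have hiso0 := g.isIso_app (Y.basicOpen π) hr.ge
  -- the comparison
  let φ : Γ(Y, Y.basicOpen π) →+* Γ(Z, ⊤) := (ores hpre).comp (g.app (Y.basicOpen π)).hom
  have hφ : Function.Bijective φ := by
    have h1 : Function.Bijective (ores hpre) := by
      have h2 : g ⁻¹ᵁ (Y.basicOpen π) = ⊤ := top_le_iff.mp hpre
      have h3 : IsIso (Z.presheaf.map (homOfLE hpre).op) := by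
        have : IsIso (homOfLE hpre) := ⟨homOfLE h2.le, rfl, rfl⟩
        infer_instance
      exact ConcreteCategory.bijective_of_isIso (Z.presheaf.map (homOfLE hpre).op)
    exact h1.comp (ConcreteCategory.bijective_of_isIso (g.app (Y.basicOpen π)))
  have hφr : ∀ c : Γ(Y, ⊤), φ (ores (le_top : Y.basicOpen π ≤ ⊤) c) = g.appTop c := by
    intro c
    have h2 : g.app (Y.basicOpen π) (ores (le_top : Y.basicOpen π ≤ ⊤) c) =
        ores (show g ⁻¹ᵁ (Y.basicOpen π) ≤ ⊤ from le_top) (g.appTop c) :=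
      congr($(g.naturality (homOfLE (le_top : Y.basicOpen π ≤ ⊤)).op) c)
    change ores hpre (g.app (Y.basicOpen π) (ores (le_top : Y.basicOpen π ≤ ⊤) c)) = _
    rw [h2]
    exact (ores_ores le_top hpre _).trans (ores_refl _)
  obtain ⟨v₁, hv₁⟩ := hφ.2 v
  have hv₁u : IsUnit v₁ := by
    obtain ⟨w₁, hw₁⟩ := hφ.2 ((v⁻¹ : Γ(Z, ⊤)ˣ) : Γ(Z, ⊤))
    refine IsUnit.of_mul_eq_one w₁ (hφ.1 ?_)
    rw [map_mul, hv₁, hw₁, map_one, Units.mul_inv]
  have hirr' : IsIrreducible ((Y.basicOpen π : Set Y)ᶜ) := by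
    have h1 : ((Y.basicOpen π : Set Y)ᶜ) = p ⁻¹' {(IsLocalRing.closedPoint V : PrimeSpectrum V)} := by
      ext y
      exact Fga.DVRGeom.notMem_basicOpen_iff p hϖ y
    rw [h1]
    exact hirr
  obtain ⟨n, u, hu, hun⟩ := exists_unit (π := π) (Fga.DVRGeom.ores_tr_injective p hϖ.ne_zero)
    (Fga.DVRGeom.isPrime_span_ge p hϖ) hirr' hv₁u
  have hϖK : algebraMap V K ϖ ≠ 0 := fun hz =>
    hϖ.ne_zero ((map_eq_zero_iff _ (IsFractionRing.injective V K)).mp hz)
  have hpu : Units.map (φ : Γ(Y, Y.basicOpen π) →* Γ(Z, ⊤)) (pu π (le_refl _)) = cst k (Units.mk0 _ hϖK) := by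
    apply Units.ext
    change φ (ores le_top π) = _
    rw [hφr, cst_val, hπ, appTop_scal p h]
    rfl
  refine ⟨Units.mk0 _ hϖK ^ n, hu.unit, ?_⟩
  apply Units.ext
  have h4 := congrArg φ hun
  rw [hφr, map_mul, hv₁] at h4
  rw [Units.val_mul]
  refine h4.trans ?_
  congr 1
  have h5 : Units.map (φ : Γ(Y, Y.basicOpen π) →* Γ(Z, ⊤)) (pu π (le_refl _) ^ n) = cst k (Units.mk0 _ hϖK ^ n) := by
    rw [map_zpow, hpu, map_zpow]
  exact congrArg Units.val h5

end DVR

end K388.ExtUnit
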