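import Groth.Agent.Sga3.H805.SecExt
import Mathlib.RingTheory.Localization.FractionRing

/-!
# Hartogs for functions and units on flat schemes over a Noetherian normal domain

`exists_fun`, `exists_unit`: a function (a unit) on the generic fibre which extends over all discrete valuation rings
`R_q` extends; `appTop_injective`: uniqueness.
-/

set_option autoImplicit false

universe u

open CategoryTheory CategoryTheory.Limits AlgebraicGeometry Opposite TopologicalSpace
open Groth.Agent.Sga3.H805.SecExt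

namespace K388.Hart

variable {R K : Type u} [CommRing R] [IsDomain R] [Field K] [Algebra R K] [IsFractionRing R K]
  {X Y : Scheme.{u}} {f : X ⟶ Spec (CommRingCat.of R)} {g : Y ⟶ X} {k : Y ⟶ Spec (CommRingCat.of K)}

/-- Functions on a flat scheme over a domain inject into functions on the generic fibre. -/
theorem appTop_injective [Flat f] [CompactSpace X] [QuasiSeparatedSpace X]
    (H : IsPullback g k f (Spec.map (CommRingCat.ofHom (algebraMap R K)))) : Function.Injective g.appTop :=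
  Groth.Agent.Sga3.H805.SecExt.appTop_injective (nonZeroDivisors R) le_rfl H

/-- The data of an extension of the function `u` over the localization at `q`. -/
def ExtAt (f : X ⟶ Spec (CommRingCat.of R)) (g : Y ⟶ X) (u : Γ(Y, ⊤)) (q : Ideal R) [q.IsPrime] : Prop :=
  ∃ (T : Scheme.{u}) (a : Y ⟶ T) (b : T ⟶ X) (c : T ⟶ Spec (CommRingCat.of (Localization.AtPrime q))),
    IsPullback b c f (Spec.map (CommRingCat.ofHom (algebraMap R (Localization.AtPrime q)))) ∧ a ≫ b = g ∧
      ∃ w : Γ(T, ⊤), a.appTop w = u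

omit [IsDomain R] in
theorem ExtAt.exists_smul [CompactSpace X] [QuasiSeparatedSpace X] {u : Γ(Y, ⊤)} {q : Ideal R} [q.IsPrime]
    (h : ExtAt f g u q) : ∃ s : R, s ∉ q ∧ ∃ y : Γ(X, ⊤), g.appTop y = g.appTop (str f ⊤ s) * u := by
  obtain ⟨T, a, b, c, H, hab, w, hw⟩ := h
  obtain ⟨x, s, hs, hx⟩ := (exists_fraction q.primeCompl H).1 w
  refine ⟨s, hs, x, ?_⟩
  have h1 := congrArg a.appTop hx
  rw [map_mul, hw] at h1
  rw [← hab, Scheme.Hom.comp_appTop]
  exact h1

variable [IsNoetherianRing R] [IsIntegrallyClosed R]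

/-- **Hartogs for functions.** -/
theorem exists_fun [Flat f] [CompactSpace X] [QuasiSeparatedSpace X]
    (H : IsPullback g k f (Spec.map (CommRingCat.ofHom (algebraMap R K)))) (u : Γ(Y, ⊤))
    (hu : ∀ (q : Ideal R) [q.IsPrime], IsDiscreteValuationRing (Localization.AtPrime q) → ExtAt f g u q) :
    ∃ v : Γ(X, ⊤), g.appTop v = u :=
  exists_ext f H u fun q _ hq => (hu q hq).exists_smul

/-- **Hartogs for units.** -/
theorem exists_unit [Flat f] [CompactSpace X] [QuasiSeparatedSpace X]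
    (H : IsPullback g k f (Spec.map (CommRingCat.ofHom (algebraMap R K)))) (u : Γ(Y, ⊤)ˣ)
    (hu : ∀ (q : Ideal R) [q.IsPrime], IsDiscreteValuationRing (Localization.AtPrime q) →
      ∃ (T : Scheme.{u}) (a : Y ⟶ T) (b : T ⟶ X) (c : T ⟶ Spec (CommRingCat.of (Localization.AtPrime q))),
        IsPullback b c f (Spec.map (CommRingCat.ofHom (algebraMap R (Localization.AtPrime q)))) ∧ a ≫ b = g ∧
          ∃ w : Γ(T, ⊤)ˣ, Units.map (a.appTop.hom : Γ(T, ⊤) →* Γ(Y, ⊤)) w = u) :
    ∃! v : Γ(X, ⊤)ˣ, Units.map (g.appTop.hom : Γ(X, ⊤) →* Γ(Y, ⊤)) v = u := by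
  have hinj := appTop_injective H
  obtain ⟨v, hv⟩ := exists_fun H (u : Γ(Y, ⊤)) (by
    intro q hqp hq
    obtain ⟨T, a, b, c, H', hab, w, hw⟩ := hu q hq
    exact ⟨T, a, b, c, H', hab, w, congrArg Units.val hw⟩)
  obtain ⟨v', hv'⟩ := exists_fun H ((u⁻¹ : Γ(Y, ⊤)ˣ) : Γ(Y, ⊤)) (by
    intro q hqp hq
    obtain ⟨T, a, b, c, H', hab, w, hw⟩ := hu q hq
    refine ⟨T, a, b, c, H', hab, ((w⁻¹ : Γ(T, ⊤)ˣ) : Γ(T, ⊤)), ?_⟩
    have h1 : Units.map (a.appTop.hom : Γ(T, ⊤) →* Γ(Y, ⊤)) w⁻¹ = u⁻¹ := by rw [map_inv, hw]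
    exact congrArg Units.val h1)
  have hvv : v * v' = 1 := by
    apply hinj
    rw [map_mul, hv, hv', map_one, Units.mul_inv]
  refine ⟨⟨v, v', hvv, by rw [mul_comm, hvv]⟩, Units.ext hv, ?_⟩
  intro w hw
  apply Units.ext
  apply hinj
  exact (congrArg Units.val hw).trans hv.symm

end K388.Hart
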