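import Groth.Agent.GrpSch.K388.NodePair
import Groth.Agent.GrpSch.K270.MB.Shape3
import Groth.Agent.GrpSch.K554.FlatTors

/-!
# The node `NodeTPair` of S14306

* `gbc k P`, `bbc k D`, `tbc k θ`: base change of torsors, birigidifications and theta data.
* `nodeTPair`: over a discrete valuation ring the pairing is bimultiplicative and skew on all torsion points.
-/

set_option autoImplicit false
universe u
open CategoryTheory CategoryTheory.Limits MonoidalCategory CartesianMonoidalCategory MonObj AlgebraicGeometry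
open K999.Cart K999.EDesc K999.Scal K999.VIso Groth.Agent.Grpsch.PicGrp K529.KL
open K270.MB K388.ExtUnit K388.ExtCart K388.ExtGeom K388.DvrDatum K388.PairExt K388.NodePair

noncomputable section

namespace K388.TPair

section Bc

variable {S S' : Scheme.{u}} (k : S' ⟶ S) {X : Over S}

theorem upp_comp {X : Over S} {T T' : Over S'} (g : T' ⟶ T) (x : (Over.map k).obj T ⟶ X) :
    upp k ((Over.map k).map g ≫ x) = g ≫ upp k x := by
  apply dn_inj k
  rw [dn_upp, dn_comp, dn_upp]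

/-- The point of the product of base changes. -/
def up2 {T : Over S'} (z : (Over.map k).obj T ⟶ X ⊗ X) : T ⟶ Red.bc k X ⊗ Red.bc k X :=
  lift (upp k (z ≫ fst X X)) (upp k (z ≫ snd X X))

theorem up2_comp {T T' : Over S'} (g : T' ⟶ T) (z : (Over.map k).obj T ⟶ X ⊗ X) :
    up2 k ((Over.map k).map g ≫ z) = g ≫ up2 k z := by
  rw [up2, up2, comp_lift, Category.assoc, Category.assoc, upp_comp, upp_comp]

theorem up2_cc {T : Over S'} (z : (Over.map k).obj T ⟶ X ⊗ X) : (Over.map k).map (up2 k z) ≫ cc k X = z := by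
  rw [map_cc, up2, lift_fst, lift_snd, dn_upp, dn_upp]
  apply CartesianMonoidalCategory.hom_ext
  · rw [lift_fst]
  · rw [lift_snd]

theorem up2_of_cc {T : Over S'} (z : T ⟶ Red.bc k X ⊗ Red.bc k X) : up2 k ((Over.map k).map z ≫ cc k X) = z := by
  rw [map_cc, up2, lift_fst, lift_snd, upp_dn, upp_dn]
  apply CartesianMonoidalCategory.hom_ext
  · rw [lift_fst]
  · rw [lift_snd]

theorem up2_lift {T : Over S'} (x y : (Over.map k).obj T ⟶ X) : up2 k (lift x y) = lift (upp k x) (upp k y) := by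
  rw [up2, lift_fst, lift_snd]

/-- Base change of a torsor. -/
def gbc (P : GTor (X ⊗ X)) : GTor (Red.bc k X ⊗ Red.bc k X) where
  obj T := P.obj ((Over.map k).obj T)
  pt a := up2 k (P.pt a)
  res g a := P.res ((Over.map k).map g) a
  act {T} v a := P.act (T := (Over.map k).obj T) v a
  pt_res g a := by rw [P.pt_res, up2_comp]
  pt_act {T} v a := by
    have := P.pt_act (T := (Over.map k).obj T) v a
    rw [this]
  res_id {T} a := by rw [CategoryTheory.Functor.map_id, P.res_id]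
  res_comp g h a := by rw [Functor.map_comp, P.res_comp]
  act_one {T} a := P.act_one (T := (Over.map k).obj T) a
  act_mul {T} v w a := P.act_mul (T := (Over.map k).obj T) v w a
  res_act {T T'} g v a := P.res_act ((Over.map k).map g) v a
  act_inj {T} v w a h := P.act_inj (T := (Over.map k).obj T) v w a h
  trans {T} a b h := by
    have h1 : P.pt a = P.pt b := by
      rw [← up2_cc k (P.pt a), ← up2_cc k (P.pt b), h]
    exact P.trans (T := (Over.map k).obj T) a b h1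

variable [GrpObj X]

/-- Base change of birigidifications. -/
def bbc {P : GTor (X ⊗ X)} (D : Bir P) : Bir (gbc k P) where
  r₁ y := D.r₁ (dn k y)
  r₂ x := D.r₂ (dn k x)
  pt_r₁ {T} y := by
    change up2 k (P.pt (D.r₁ (dn k y))) = _
    rw [D.pt_r₁, up2_lift, upp_dn]
    congr 1
    rw [← dn_one k, upp_dn]
  pt_r₂ {T} x := by
    change up2 k (P.pt (D.r₂ (dn k x))) = _
    rw [D.pt_r₂, up2_lift, upp_dn]
    congr 1
    rw [← dn_one k, upp_dn]
  res_r₁ g y := by
    change P.res ((Over.map k).map g) (D.r₁ (dn k y)) = D.r₁ (dn k (g ≫ y))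
    rw [D.res_r₁, dn_comp]
  res_r₂ g x := by
    change P.res ((Over.map k).map g) (D.r₂ (dn k x)) = D.r₂ (dn k (g ≫ x))
    rw [D.res_r₂, dn_comp]
  r_one {T} := by
    change D.r₁ (dn k 1) = D.r₂ (dn k 1)
    rw [dn_one, D.r_one]

/-- Base change of a cartesian map. -/
def hbc {W P : GTor (X ⊗ X)} {f : X ⊗ X ⟶ X ⊗ X} (α : GHom W P f)
    (f' : Red.bc k X ⊗ Red.bc k X ⟶ Red.bc k X ⊗ Red.bc k X)
    (hf : (Over.map k).map f' ≫ cc k X = cc k X ≫ f) : GHom (gbc k W) (gbc k P) f' where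
  map w := α.map w
  pt_map {T} w := by
    change up2 k (P.pt (α.map w)) = up2 k (W.pt w) ≫ f'
    rw [α.pt_map, ← up2_of_cc k (up2 k (W.pt w) ≫ f'), Functor.map_comp, Category.assoc, hf, ← Category.assoc,
      up2_cc]
  map_res g w := α.map_res _ w
  map_act {T} v w := α.map_act (T := (Over.map k).obj T) v w
  lift {T} z a h := by
    have h1 : P.pt a = ((Over.map k).map z ≫ cc k X) ≫ f := by
      rw [Category.assoc, ← hf, ← Category.assoc, ← Functor.map_comp, ← h]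
      exact (up2_cc k _).symm
    obtain ⟨w, hw, hwa⟩ := α.lift (T := (Over.map k).obj T) _ a h1
    refine ⟨w, ?_, hwa⟩
    change up2 k (W.pt w) = z
    rw [hw, up2_of_cc]

/-- Base change of a theta datum. -/
def tbc {P : GTor (X ⊗ X)} {D : Bir P} {N : ℕ} (θ : Theta D N) : Theta (bbc k D) N where
  W := gbc k θ.W
  α := hbc k θ.α (powL (Red.bc k X) N) (cc_powL k N)
  β := hbc k θ.β (powR (Red.bc k X) N) (cc_powR k N)
  h₁ {T} y w hw h := by
    change up2 k (θ.W.pt w) = _ at hw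
    change θ.α.map w = D.r₁ (dn k y) at h
    change θ.β.map w = D.r₁ (dn k (y ^ N))
    rw [dn_pow]
    refine θ.h₁ (dn k y) w ?_ h
    rw [← up2_cc k (θ.W.pt w), hw, map_cc, lift_fst, lift_snd, dn_one]
  h₂ {T} x w hw h := by
    change up2 k (θ.W.pt w) = _ at hw
    change θ.α.map w = D.r₂ (dn k (x ^ N)) at h
    change θ.β.map w = D.r₂ (dn k x)
    rw [dn_pow] at h
    refine θ.h₂ (dn k x) w ?_ h
    rw [← up2_cc k (θ.W.pt w), hw, map_cc, lift_fst, lift_snd, dn_one]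

/-- The comparison. -/
def ibc (P : GTor (X ⊗ X)) : GBc k (gbc k P) P (cc k X) where
  map a := a
  pt_map {T} a := (up2_cc k (P.pt a)).symm
  map_res g a := rfl
  map_act v a := rfl
  lift {T} z a h := by
    refine ⟨a, ?_, rfl⟩
    change up2 k (P.pt a) = z
    rw [h, up2_of_cc]

end Bc

section Gen

variable {S S' : Scheme.{u}} (k : S' ⟶ S) {X : Over S} [GrpObj X] [IsCommMonObj X] {P : GTor (X ⊗ X)} {D : Bir P}
  {N : ℕ} (θ : Theta D N) (hU : PushU (Red.bc k X))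

include hU in
theorem gen_mul_left {T : Over S'} (x x' y : T ⟶ Red.bc k X) (hx : dn k x ^ N = 1) (hx' : dn k x' ^ N = 1)
    (hxx' : (dn k x * dn k x') ^ N = 1) (hy : dn k y ^ N = 1) :
    θ.e (dn k x * dn k x') (dn k y) hxx' hy = θ.e (dn k x) (dn k y) hx hy * θ.e (dn k x') (dn k y) hx' hy := by
  have e0 : ∀ z : T ⟶ Red.bc k X, dn k z ^ N = 1 → z ^ N = 1 := fun z hz => dn_inj k (by rw [dn_pow, hz, dn_one])
  have hxx : (x * x') ^ N = 1 := e0 _ (by rw [dn_mul]; exact hxx')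
  have h1 := (tbc k θ).e_mul_left hU x x' y (e0 x hx) (e0 x' hx') hxx (e0 y hy)
  rw [Theta.e_bc k (ibc k P) θ (tbc k θ) hU (x * x') y _ _ (by rw [dn_mul]; exact hxx') hy,
    Theta.e_bc k (ibc k P) θ (tbc k θ) hU x y _ _ hx hy,
    Theta.e_bc k (ibc k P) θ (tbc k θ) hU x' y _ _ hx' hy] at h1
  refine Eq.trans ?_ h1
  exact e_congr' _ _ _ _ _ (dn_mul k x x').symm rfl

include hU in
theorem gen_mul_right {T : Over S'} (x y y' : T ⟶ Red.bc k X) (hx : dn k x ^ N = 1) (hy : dn k y ^ N = 1)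
    (hy' : dn k y' ^ N = 1) (hyy' : (dn k y * dn k y') ^ N = 1) :
    θ.e (dn k x) (dn k y * dn k y') hx hyy' = θ.e (dn k x) (dn k y) hx hy * θ.e (dn k x) (dn k y') hx hy' := by
  have e0 : ∀ z : T ⟶ Red.bc k X, dn k z ^ N = 1 → z ^ N = 1 := fun z hz => dn_inj k (by rw [dn_pow, hz, dn_one])
  have hyy : (y * y') ^ N = 1 := e0 _ (by rw [dn_mul]; exact hyy')
  have h1 := (tbc k θ).e_mul_right hU x y y' (e0 x hx) (e0 y hy) (e0 y' hy') hyy
  rw [Theta.e_bc k (ibc k P) θ (tbc k θ) hU x (y * y') _ _ hx (by rw [dn_mul]; exact hyy'),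
    Theta.e_bc k (ibc k P) θ (tbc k θ) hU x y _ _ hx hy,
    Theta.e_bc k (ibc k P) θ (tbc k θ) hU x y' _ _ hx hy'] at h1
  refine Eq.trans ?_ h1
  exact e_congr' _ _ _ _ _ rfl (dn_mul k y y').symm

end Gen

section Geo

variable {S : Scheme.{u}}

instance quasiCompact_tensor (X Y : Over S) [QuasiCompact X.hom] [QuasiCompact Y.hom] : QuasiCompact (X ⊗ Y).hom := by
  rw [← tensor_w' X Y]
  have : QuasiCompact (snd X Y).left := MorphismProperty.of_isPullback (isPullback_tensor X Y) inferInstance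
  infer_instance

instance isSeparated_tensor (X Y : Over S) [IsSeparated X.hom] [IsSeparated Y.hom] : IsSeparated (X ⊗ Y).hom := by
  rw [← tensor_w' X Y]
  have : IsSeparated (snd X Y).left := MorphismProperty.of_isPullback (isPullback_tensor X Y) inferInstance
  infer_instance

/-- Flat, quasi-compact and separated over the base. -/
structure FQS (X : Over S) : Prop where
  flat : Flat X.hom
  qc : QuasiCompact X.hom
  sep : IsSeparated X.hom

theorem FQS.tensor {X Y : Over S} (hX : FQS X) (hY : FQS Y) : FQS (X ⊗ Y) := by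
  obtain ⟨a1, a2, a3⟩ := hX
  obtain ⟨b1, b2, b3⟩ := hY
  exact ⟨inferInstance, inferInstance, inferInstance⟩

variable {S' : Scheme.{u}} (g : S' ⟶ S)

theorem rs_e {X : Over S} [GrpObj X] {P : GTor (X ⊗ X)} {D : Bir P} {N : ℕ} (θ : Theta D N) {T : Over S}
    (x y : T ⟶ X) (hx : x ^ N = 1) (hy : y ^ N = 1)
    (hx' : dn g ((Over.pullback g).map x : Red.bc g T ⟶ Red.bc g X) ^ N = 1)
    (hy' : dn g ((Over.pullback g).map y : Red.bc g T ⟶ Red.bc g X) ^ N = 1) :
    rs g T (θ.e x y hx hy) = θ.e (T := (Over.map g).obj (Red.bc g T)) (dn g ((Over.pullback g).map x)) (dn g ((Over.pullback g).map y)) hx' hy' := by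
  have e1 : dn g ((Over.pullback g).map x : Red.bc g T ⟶ Red.bc g X) = dn g (𝟙 (Red.bc g T)) ≫ x := by
    rw [← dn_map, Category.id_comp]
  have e2 : dn g ((Over.pullback g).map y : Red.bc g T ⟶ Red.bc g X) = dn g (𝟙 (Red.bc g T)) ≫ y := by
    rw [← dn_map, Category.id_comp]
  refine Eq.trans ?_ (e_congr' θ (by rw [← e1]; exact hx') (by rw [← e2]; exact hy') hx' hy' e1.symm e2.symm)
  rw [θ.e_nat (dn g (𝟙 (Red.bc g T))) x y hx hy]
  rfl

theorem dn_map_pow {X : Over S} [GrpObj X] {N : ℕ} {T : Over S} (x : T ⟶ X) (hx : x ^ N = 1) :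
    dn g ((Over.pullback g).map x : Red.bc g T ⟶ Red.bc g X) ^ N = 1 := by
  have e1 : dn g ((Over.pullback g).map x : Red.bc g T ⟶ Red.bc g X) = dn g (𝟙 (Red.bc g T)) ≫ x := by
    rw [← dn_map, Category.id_comp]
  rw [e1, ← comp_pow', hx, MonObj.comp_one]

theorem dn_map_mul {X : Over S} [GrpObj X] {T : Over S} (x y : T ⟶ X) :
    dn g ((Over.pullback g).map (x * y) : Red.bc g T ⟶ Red.bc g X) =
      dn g ((Over.pullback g).map x) * dn g ((Over.pullback g).map y) := by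
  rw [bc_map_mul, dn_mul]

end Geo

section Main

variable {V K : Type u} [CommRing V] [IsDomain V] [Field K] [Algebra V K] [IsFractionRing V K]
  {g : Spec (CommRingCat.of K) ⟶ Spec (CommRingCat.of V)}
  (hg : g = Spec.map (CommRingCat.ofHom (algebraMap V K)))
  {A : Over (Spec (CommRingCat.of V))} [GrpObj A] [IsCommMonObj A] {P : GTor (A ⊗ A)} {D : Bir P} {N : ℕ}
  (θ : Theta D N) (hU : PushU (Red.bc g A))

include hg in
theorem rs_inj {T : Over (Spec (CommRingCat.of V))} (hT : FQS T) : Function.Injective (rs g T) := by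
  obtain ⟨h1, h2, h3⟩ := hT
  have c : CompactSpace T.left := (quasiCompact_iff_compactSpace T.hom).mp h2
  have q : QuasiSeparatedSpace T.left := by
    have : QuasiSeparated T.hom := inferInstance
    exact quasiSeparatedSpace_of_quasiSeparated T.hom
  exact rs_injective hg T

include hg hU in
theorem flat_mul_left {T : Over (Spec (CommRingCat.of V))} (hT : FQS T) (x x' y : T ⟶ A) (hx : x ^ N = 1)
    (hx' : x' ^ N = 1) (hxx' : (x * x') ^ N = 1) (hy : y ^ N = 1) :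
    θ.e (x * x') y hxx' hy = θ.e x y hx hy * θ.e x' y hx' hy := by
  apply rs_inj hg hT
  rw [map_mul, rs_e g θ _ _ _ _ (dn_map_pow g _ hxx') (dn_map_pow g _ hy),
    rs_e g θ _ _ _ _ (dn_map_pow g _ hx) (dn_map_pow g _ hy),
    rs_e g θ _ _ _ _ (dn_map_pow g _ hx') (dn_map_pow g _ hy)]
  have h1 := gen_mul_left g θ hU ((Over.pullback g).map x) ((Over.pullback g).map x') ((Over.pullback g).map y)
    (dn_map_pow g _ hx) (dn_map_pow g _ hx') (by rw [← dn_map_mul]; exact dn_map_pow g _ hxx') (dn_map_pow g _ hy)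
  refine Eq.trans ?_ h1
  exact e_congr' _ _ _ _ _ (dn_map_mul g x x') rfl

include hg hU in
theorem flat_mul_right {T : Over (Spec (CommRingCat.of V))} (hT : FQS T) (x y y' : T ⟶ A) (hx : x ^ N = 1)
    (hy : y ^ N = 1) (hy' : y' ^ N = 1) (hyy' : (y * y') ^ N = 1) :
    θ.e x (y * y') hx hyy' = θ.e x y hx hy * θ.e x y' hx hy' := by
  apply rs_inj hg hT
  rw [map_mul, rs_e g θ _ _ _ _ (dn_map_pow g _ hx) (dn_map_pow g _ hyy'),
    rs_e g θ _ _ _ _ (dn_map_pow g _ hx) (dn_map_pow g _ hy),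
    rs_e g θ _ _ _ _ (dn_map_pow g _ hx) (dn_map_pow g _ hy')]
  have h1 := gen_mul_right g θ hU ((Over.pullback g).map x) ((Over.pullback g).map y) ((Over.pullback g).map y')
    (dn_map_pow g _ hx) (dn_map_pow g _ hy) (dn_map_pow g _ hy') (by rw [← dn_map_mul]; exact dn_map_pow g _ hyy')
  refine Eq.trans ?_ h1
  exact e_congr' _ _ _ _ _ rfl (dn_map_mul g y y')

include hg in
theorem flat_skew (hsk : ∀ {T : Over (Spec (CommRingCat.of K))} (x y : T ⟶ Red.bc g A)
      (hx : dn g x ^ N = 1) (hy : dn g y ^ N = 1),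
      θ.e (T := (Over.map g).obj T) (dn g x) (dn g y) hx hy * θ.e (T := (Over.map g).obj T) (dn g y) (dn g x) hy hx = 1)
    {T : Over (Spec (CommRingCat.of V))} (hT : FQS T) (x y : T ⟶ A) (hx : x ^ N = 1) (hy : y ^ N = 1) :
    θ.e x y hx hy * θ.e y x hy hx = 1 := by
  apply rs_inj hg hT
  rw [map_mul, rs_e g θ _ _ _ _ (dn_map_pow g _ hx) (dn_map_pow g _ hy),
    rs_e g θ _ _ _ _ (dn_map_pow g _ hy) (dn_map_pow g _ hx), map_one]
  exact hsk _ _ _ _

include hg hU in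
theorem main (hsk : ∀ {T : Over (Spec (CommRingCat.of K))} (x y : T ⟶ Red.bc g A)
      (hx : dn g x ^ N = 1) (hy : dn g y ^ N = 1),
      θ.e (T := (Over.map g).obj T) (dn g x) (dn g y) hx hy * θ.e (T := (Over.map g).obj T) (dn g y) (dn g x) hy hx = 1)
    {W : Over (Spec (CommRingCat.of V))} (hW : FQS W) (w : W ⟶ A)
    (hw : ∀ {T : Over (Spec (CommRingCat.of V))} (x : T ⟶ A), Fac w x ↔ x ^ N = 1) :
    ∃ E : TPairing A N, (∀ {T : Over (Spec (CommRingCat.of V))} (x y : T ⟶ A) (hx : x ^ N = 1) (hy : y ^ N = 1),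
        E.e x y hx hy = θ.e x y hx hy) ∧
      ∀ {T : Over (Spec (CommRingCat.of V))} (x y : T ⟶ A) (hx : x ^ N = 1) (hy : y ^ N = 1),
        E.e x y hx hy * E.e y x hy hx = 1 := by
  have hpw : ∀ {T : Over (Spec (CommRingCat.of V))} (z : T ⟶ W), (z ≫ w) ^ N = 1 := fun z => (hw _).mp ⟨z, rfl⟩
  have hpp : ∀ {T : Over (Spec (CommRingCat.of V))} (x x' : T ⟶ A), x ^ N = 1 → x' ^ N = 1 → (x * x') ^ N = 1 := by
    intro T x x' hx hx'
    rw [mul_pow, hx, hx', _root_.one_mul]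
  refine ⟨⟨fun x y hx hy => θ.e x y hx hy, fun g x y hx hy hx' hy' => θ.e_nat g x y hx hy hx' hy', ?_, ?_⟩,
    fun x y hx hy => rfl, ?_⟩
  · intro T x x' y hx hx' hxx' hy
    obtain ⟨a, rfl⟩ := (hw x).mpr hx
    obtain ⟨b, rfl⟩ := (hw x').mpr hx'
    obtain ⟨c, rfl⟩ := (hw y).mpr hy
    let z : T ⟶ W ⊗ (W ⊗ W) := lift a (lift b c)
    have hT : FQS (W ⊗ (W ⊗ W)) := hW.tensor (hW.tensor hW)
    have h1 := congrArg (ures z) (flat_mul_left hg θ hU hT (fst W (W ⊗ W) ≫ w) ((snd W (W ⊗ W) ≫ fst W W) ≫ w)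
      ((snd W (W ⊗ W) ≫ snd W W) ≫ w) (hpw _) (hpw _) (hpp _ _ (hpw _) (hpw _)) (hpw _))
    have e1 : z ≫ fst W (W ⊗ W) ≫ w = a ≫ w := by rw [lift_fst_assoc]
    have e2 : z ≫ (snd W (W ⊗ W) ≫ fst W W) ≫ w = b ≫ w := by
      rw [Category.assoc, lift_snd_assoc, lift_fst_assoc]
    have e3 : z ≫ (snd W (W ⊗ W) ≫ snd W W) ≫ w = c ≫ w := by
      rw [Category.assoc, lift_snd_assoc, lift_snd_assoc]
    have e4 : z ≫ ((fst W (W ⊗ W) ≫ w) * ((snd W (W ⊗ W) ≫ fst W W) ≫ w)) = (a ≫ w) * (b ≫ w) := by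
      rw [MonObj.comp_mul, e1, e2]
    rw [map_mul, ← θ.e_nat z _ _ _ _ (by rw [e4]; exact hxx') (by rw [e3]; exact hy),
      ← θ.e_nat z _ _ _ _ (by rw [e1]; exact hx) (by rw [e3]; exact hy),
      ← θ.e_nat z _ _ _ _ (by rw [e2]; exact hx') (by rw [e3]; exact hy)] at h1
    have k1 := e_congr' θ (by rw [e4]; exact hxx') (by rw [e3]; exact hy) hxx' hy e4 e3
    have k2 := e_congr' θ (by rw [e1]; exact hx) (by rw [e3]; exact hy) hx hy e1 e3
    have k3 := e_congr' θ (by rw [e2]; exact hx') (by rw [e3]; exact hy) hx' hy e2 e3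
    rw [k1, k2, k3] at h1
    exact h1
  · intro T x y y' hx hy hy' hyy'
    obtain ⟨a, rfl⟩ := (hw x).mpr hx
    obtain ⟨b, rfl⟩ := (hw y).mpr hy
    obtain ⟨c, rfl⟩ := (hw y').mpr hy'
    let z : T ⟶ W ⊗ (W ⊗ W) := lift a (lift b c)
    have hT : FQS (W ⊗ (W ⊗ W)) := hW.tensor (hW.tensor hW)
    have h1 := congrArg (ures z) (flat_mul_right hg θ hU hT (fst W (W ⊗ W) ≫ w) ((snd W (W ⊗ W) ≫ fst W W) ≫ w)
      ((snd W (W ⊗ W) ≫ snd W W) ≫ w) (hpw _) (hpw _) (hpw _) (hpp _ _ (hpw _) (hpw _)))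
    have e1 : z ≫ fst W (W ⊗ W) ≫ w = a ≫ w := by rw [lift_fst_assoc]
    have e2 : z ≫ (snd W (W ⊗ W) ≫ fst W W) ≫ w = b ≫ w := by
      rw [Category.assoc, lift_snd_assoc, lift_fst_assoc]
    have e3 : z ≫ (snd W (W ⊗ W) ≫ snd W W) ≫ w = c ≫ w := by
      rw [Category.assoc, lift_snd_assoc, lift_snd_assoc]
    have e4 : z ≫ (((snd W (W ⊗ W) ≫ fst W W) ≫ w) * ((snd W (W ⊗ W) ≫ snd W W) ≫ w)) = (b ≫ w) * (c ≫ w) := by
      rw [MonObj.comp_mul, e2, e3]
    rw [map_mul, ← θ.e_nat z _ _ _ _ (by rw [e1]; exact hx) (by rw [e4]; exact hyy'),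
      ← θ.e_nat z _ _ _ _ (by rw [e1]; exact hx) (by rw [e2]; exact hy),
      ← θ.e_nat z _ _ _ _ (by rw [e1]; exact hx) (by rw [e3]; exact hy')] at h1
    have k1 := e_congr' θ (by rw [e1]; exact hx) (by rw [e4]; exact hyy') hx hyy' e1 e4
    have k2 := e_congr' θ (by rw [e1]; exact hx) (by rw [e2]; exact hy) hx hy e1 e2
    have k3 := e_congr' θ (by rw [e1]; exact hx) (by rw [e3]; exact hy') hx hy' e1 e3
    rw [k1, k2, k3] at h1
    exact h1
  · intro T x y hx hy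
    change θ.e x y hx hy * θ.e y x hy hx = 1
    obtain ⟨a, rfl⟩ := (hw x).mpr hx
    obtain ⟨b, rfl⟩ := (hw y).mpr hy
    let z : T ⟶ W ⊗ W := lift a b
    have h1 := congrArg (ures z) (flat_skew hg θ hsk (hW.tensor hW) (fst W W ≫ w) (snd W W ≫ w) (hpw _) (hpw _))
    have e1 : z ≫ fst W W ≫ w = a ≫ w := by rw [lift_fst_assoc]
    have e2 : z ≫ snd W W ≫ w = b ≫ w := by rw [lift_snd_assoc]
    rw [map_mul, map_one, ← θ.e_nat z _ _ _ _ (by rw [e1]; exact hx) (by rw [e2]; exact hy),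
      ← θ.e_nat z _ _ _ _ (by rw [e2]; exact hy) (by rw [e1]; exact hx)] at h1
    have k1 := e_congr' θ (by rw [e1]; exact hx) (by rw [e2]; exact hy) hx hy e1 e2
    have k2 := e_congr' θ (by rw [e2]; exact hy) (by rw [e1]; exact hx) hy hx e2 e1
    rw [k1, k2] at h1
    exact h1

end Main

theorem nodeTPair : K270.MB.NodeTPair.{u} := by
  intro V K _ _ _ _ _ _ A _ _ hsm hsep hqc hrk hU P hP D N hN θ hsk
  obtain ⟨W, hWg, w, hcl, hfl, hw⟩ := K554.FlatTors.main V A hsm hsep hqc hrk N hN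
  have hc := hcl.closed
  have hW : FQS W := by
    have e : W.hom = w.left ≫ A.hom := (Over.w w).symm
    refine ⟨hfl, ?_, ?_⟩
    · rw [e]; infer_instance
    · rw [e]; infer_instance
  exact main (g := sp (algebraMap V K)) rfl θ hU (fun x y hx hy => hsk x y hx hy) hW w (fun x => hw x)

end K388.TPair
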