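import Groth.Agent.GrpSch.K270.MB.Closed
import Groth.Agent.GrpSch.K388.DvrDatum
import Groth.Agent.GrpSch.K388.Hart
import Groth.Prelude.Def_ActBC

/-!
# Extension of the values of the pairing over a Noetherian normal domain

* `main'`: the extension of the datum over a discrete valuation ring, from facts about classes.
* `exists_dvr`: the value `e(x, y)` on the generic fibre of `T` extends to `T_V`, `V` a discrete valuation ring between
  `R` and its field of fractions.
* `exists_val`: if `T` is flat over a Noetherian normal domain `R`, the value extends to `T`.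
-/

set_option autoImplicit false
universe u
open CategoryTheory CategoryTheory.Limits MonoidalCategory CartesianMonoidalCategory MonObj AlgebraicGeometry
open K999.Cart K999.EDesc K999.Scal K999.VIso Groth.Agent.Grpsch.PicGrp K529.KL
open K270.MB K388.ExtUnit K388.ExtCart K388.ExtGeom K388.DvrDatum

noncomputable section

namespace K388.PairExt

section Iso

variable {S : Scheme.{u}} {X B : Over S} [GrpObj X] [GrpObj B] (π : X ⟶ B) [IsMonHom π]

theorem axis₁_map : lift 1 (𝟙 X) ≫ (π ⊗ₘ π) = π ≫ lift 1 (𝟙 B) := by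
  rw [lift_map, MonObj.one_comp, Category.id_comp, comp_lift, MonObj.comp_one, Category.comp_id]

theorem axis₂_map : lift (𝟙 X) 1 ≫ (π ⊗ₘ π) = π ≫ lift (𝟙 B) 1 := by
  rw [lift_map, MonObj.one_comp, Category.id_comp, comp_lift, MonObj.comp_one, Category.comp_id]

theorem pl_comp {T X Y : Over S} (a : T ⟶ X) (b : X ⟶ Y) (c : Pic Y.left) : pl (a ≫ b) c = pl a (pl b c) :=
  pull_comp a.left b.left c

/-- Transport of constancy of units along an isomorphism. -/
theorem constU_of_iso [IsIso π] (h : ConstU B) : ConstU X := by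
  intro v
  have h1 := congrArg (ures π) (h (ures (inv π) v))
  rw [← ures_comp, ← ures_comp, ← ures_comp, IsIso.hom_inv_id, ures_id] at h1
  have h2 : (η : 𝟙_ (Over S) ⟶ B) ≫ inv π = η := by
    rw [← IsMonHom.one_hom π, Category.assoc, IsIso.hom_inv_id, Category.comp_id]
  rw [toUnit_unique (π ≫ toUnit B) (toUnit X), ← ures_comp, Category.assoc, h2, ures_comp] at h1
  exact h1

/-- Transport of `AxesU` along an isomorphism. -/
theorem axesU_of_iso [IsIso π] (h : AxesU B) : AxesU X := by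
  intro v h₁ h₂
  have e1 : (inv π ⊗ₘ inv π) = inv (π ⊗ₘ π) := by
    apply IsIso.eq_inv_of_hom_inv_id
    rw [MonoidalCategory.tensorHom_comp_tensorHom, IsIso.hom_inv_id, id_tensorHom_id]
  have h3 : ures (inv (π ⊗ₘ π)) v = 1 := by
    apply h
    · rw [← ures_comp]
      have : lift 1 (𝟙 B) ≫ inv (π ⊗ₘ π) = inv π ≫ lift 1 (𝟙 X) := by
        rw [IsIso.comp_inv_eq, Category.assoc, axis₁_map, IsIso.inv_hom_id_assoc]
      rw [this, ures_comp, h₁, map_one]
    · rw [← ures_comp]
      have : lift (𝟙 B) 1 ≫ inv (π ⊗ₘ π) = inv π ≫ lift (𝟙 X) 1 := by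
        rw [IsIso.comp_inv_eq, Category.assoc, axis₂_map, IsIso.inv_hom_id_assoc]
      rw [this, ures_comp, h₂, map_one]
  have h4 := congrArg (ures (π ⊗ₘ π)) h3
  rwa [← ures_comp, IsIso.hom_inv_id, ures_id, map_one] at h4

theorem axesU_of_pushU (h : PushU B) : AxesU B := by
  intro v _ h₂
  have h1 := h B v
  rw [h₂, map_one] at h1
  exact h1

end Iso

section Class

variable {S : Scheme.{u}} {X : Over S} [GrpObj X] {P : (X ⊗ X).left.Modules} (hP : PicF.IsInvertible P)

theorem class_axis₁ (D : Bir (GTor.ofMod (X ⊗ X) P)) : pl (lift 1 (𝟙 X)) (mk P hP) = 1 :=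
  (exists_obj_iff hP _).mp ⟨D.r₁ (𝟙 _), D.pt_r₁ _⟩

theorem class_axis₂ (D : Bir (GTor.ofMod (X ⊗ X) P)) : pl (lift (𝟙 X) 1) (mk P hP) = 1 :=
  (exists_obj_iff hP _).mp ⟨D.r₂ (𝟙 _), D.pt_r₂ _⟩

theorem class_pow {D : Bir (GTor.ofMod (X ⊗ X) P)} {N : ℕ} (θ : ATheta D N) :
    pl (powL X N) (mk P hP) = pl (powR X N) (mk P hP) := by
  have h1 : pull (powL X N).left (mk P hP) = mk θ.W θ.inv := mk_of_cart θ.inv hP θ.ha θ.hab
  have h2 : pull (powR X N).left (mk P hP) = mk θ.W θ.inv := mk_of_cart θ.inv hP θ.hb θ.hbb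
  exact h1.trans h2.symm

end Class

/-- Extension of the datum over a discrete valuation ring, from facts about classes. -/
theorem main' {V K : Type u} [CommRing V] [IsDomain V] [IsDiscreteValuationRing V] [Field K] [Algebra V K]
    [IsFractionRing V K] {k : Spec (CommRingCat.of K) ⟶ Spec (CommRingCat.of V)}
    (hk : k = Spec.map (CommRingCat.ofHom (algebraMap V K)))
    (A : Over (Spec (CommRingCat.of V))) [GrpObj A] [Smooth A.hom] [GeometricallyConnected A.hom]
    (P₀ : (Red.bc k A ⊗ Red.bc k A).left.Modules) (hP₀ : PicF.IsInvertible P₀)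
    (h₁ : pl (lift 1 (𝟙 (Red.bc k A))) (mk P₀ hP₀) = 1) (h₂ : pl (lift (𝟙 (Red.bc k A)) 1) (mk P₀ hP₀) = 1)
    {N : ℕ} (hcl : pl (powL (Red.bc k A) N) (mk P₀ hP₀) = pl (powR (Red.bc k A) N) (mk P₀ hP₀))
    (hc : ConstU (Red.bc k A)) :
    ∃ (P : (A ⊗ A).left.Modules) (κ : ob (Red.bc k A ⊗ Red.bc k A).left P₀ ⟶ ob (A ⊗ A).left P)
      (D : Bir (GTor.ofMod (A ⊗ A) P)), PicF.IsInvertible P ∧ IsCart κ ∧ κ.base = pr2 k A A ∧
        Nonempty (ATheta D N) := by
  have hsm2 : Smooth (A ⊗ A).hom := inferInstance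
  have hgc2 : GeometricallyConnected (A ⊗ A).hom := geometricallyConnected_tensor A A
  have hirr := isIrreducible_fibre A.hom (IsLocalRing.closedPoint V : PrimeSpectrum V)
  have hirr2 := isIrreducible_fibre (A ⊗ A).hom (IsLocalRing.closedPoint V : PrimeSpectrum V)
  have hcA : ConstU A := constU hk A hc
  have hpr : IsPullback (pr k A) (Red.bc k A).hom A.hom (Spec.map (CommRingCat.ofHom (algebraMap V K))) := by
    rw [← hk]; exact isPullback_pr k A
  have hpr2 : IsPullback (pr2 k A A) (Red.bc k A ⊗ Red.bc k A).hom (A ⊗ A).hom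
      (Spec.map (CommRingCat.ofHom (algebraMap V K))) := by
    rw [← hk]; exact isPullback_pr2 k A A
  obtain ⟨P, κ, hP, hκ, hκb⟩ := exists_obj (A ⊗ A).hom hpr2 P₀ hP₀
  have hinj := pull_injective A.hom hpr hirr
  have hinj2 := pull_injective (A ⊗ A).hom hpr2 hirr2
  have hPP : pull (pr2 k A A) (mk P hP) = mk P₀ hP₀ := mk_of_cart hP₀ hP hκ hκb
  have h₁ : ∃ a : (GTor.ofMod (A ⊗ A) P).obj A, (GTor.ofMod (A ⊗ A) P).pt a = lift 1 (𝟙 A) := by
    rw [exists_obj_iff hP]
    apply hinj
    rw [map_one, ← h₁, ← hPP]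
    change pull _ (pull _ _) = pull _ (pull _ _)
    rw [← pull_comp, ← pull_comp, axis₁]
  have h₂ : ∃ a : (GTor.ofMod (A ⊗ A) P).obj A, (GTor.ofMod (A ⊗ A) P).pt a = lift (𝟙 A) 1 := by
    rw [exists_obj_iff hP]
    apply hinj
    rw [map_one, ← h₂, ← hPP]
    change pull _ (pull _ _) = pull _ (pull _ _)
    rw [← pull_comp, ← pull_comp, axis₂]
  obtain ⟨D⟩ := exists_bir (GTor.ofMod (A ⊗ A) P) h₁ h₂
  refine ⟨P, κ, D, hP, hκ, hκb, exists_atheta hP D hcA N ?_⟩
  apply hinj2
  rw [← hPP] at hcl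
  change pull _ (pull _ _) = pull _ (pull _ _) at hcl
  change pull _ (pull _ _) = pull _ (pull _ _)
  rw [← pull_comp, ← pull_comp, ← powL_pr2, ← powR_pr2, pull_comp, pull_comp]
  exact hcl

theorem pr2_eq_cc {S S' : Scheme.{u}} (k : S' ⟶ S) (X : Over S) : pr2 k X X = (cc k X).left := by
  have h := isPullback_tensor X X
  apply h.hom_ext
  · rw [pr2_fst]
    have h1 : cc k X ≫ fst X X = dn k (fst (Red.bc k X) (Red.bc k X)) := lift_fst _ _
    exact (congrArg (fun z => z.left) h1).symm
  · rw [pr2_snd]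
    have h1 : cc k X ≫ snd X X = dn k (snd (Red.bc k X) (Red.bc k X)) := lift_snd _ _
    exact (congrArg (fun z => z.left) h1).symm

section Dvr

variable {R K : Type u} [CommRing R] [Field K] {V : Type u} [CommRing V]
  {g : Spec (CommRingCat.of K) ⟶ Spec (CommRingCat.of R)} {k : Spec (CommRingCat.of K) ⟶ Spec (CommRingCat.of V)}
  {s : Spec (CommRingCat.of V) ⟶ Spec (CommRingCat.of R)}

/-- The canonical map `T_K ⟶ T_V`. -/
def can (h : k ≫ s = g) (T : Over (Spec (CommRingCat.of R))) :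
    (Over.map k).obj (Red.bc g T) ⟶ Red.bc s T := dn k (ActBC.bcCompIso k s T h).inv

/-- Restriction of invertible functions from `T_V` to `T_K`. -/
def canU (h : k ≫ s = g) (T : Over (Spec (CommRingCat.of R))) : U (Red.bc s T) →* U (Red.bc g T) := ures (can h T)

theorem canU_val (h : k ≫ s = g) (T : Over (Spec (CommRingCat.of R))) (w : U (Red.bc s T)) :
    (canU h T w : Γ((Red.bc g T).left, ⊤)) = (can h T).left.appTop (w : Γ((Red.bc s T).left, ⊤)) := rfl

theorem can_fst (h : k ≫ s = g) (T : Over (Spec (CommRingCat.of R))) : (can h T).left ≫ pr s T = pr g T := by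
  change ((ActBC.bcCompIso k s T h).inv.left ≫ pullback.fst _ k) ≫ pullback.fst _ s = pullback.fst _ g
  rw [Category.assoc, ← ActBC.bcCompIso_hom_left_fst k s T h, ← Category.assoc, ← Over.comp_left, Iso.inv_hom_id,
    Over.id_left, Category.id_comp]

theorem can_map (h : k ≫ s = g) {T A : Over (Spec (CommRingCat.of R))} (x : T ⟶ A) :
    can h T ≫ (Over.pullback s).map x = dn k ((Over.pullback g).map x ≫ (ActBC.bcCompIso k s A h).inv) := by
  rw [can, ← dn_map]
  congr 1
  rw [Iso.inv_comp_eq, ← Category.assoc, ← ActBC.bcCompIso_hom_naturality, Category.assoc, Iso.hom_inv_id,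
    Category.comp_id]

/-- **Extension of the values over a discrete valuation ring.** -/
theorem exists_dvr [IsDomain V] [IsDiscreteValuationRing V] [Algebra V K] [IsFractionRing V K] (hk : k = Spec.map (CommRingCat.ofHom (algebraMap V K))) (h : k ≫ s = g)
    (A : Over (Spec (CommRingCat.of R))) [GrpObj A] [Smooth A.hom] [GeometricallyConnected A.hom]
    {P : (Red.bc g A ⊗ Red.bc g A).left.Modules} (hP : PicF.IsInvertible P)
    {D : Bir (GTor.ofMod (Red.bc g A ⊗ Red.bc g A) P)} {N : ℕ} (θ : ATheta D N) (hc : ConstU (Red.bc g A))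
    (hU : PushU (Red.bc g A)) {T : Over (Spec (CommRingCat.of R))} (x y : T ⟶ A) (hx : x ^ N = 1) (hy : y ^ N = 1)
    (hx' : ((Over.pullback g).map x : Red.bc g T ⟶ Red.bc g A) ^ N = 1)
    (hy' : ((Over.pullback g).map y : Red.bc g T ⟶ Red.bc g A) ^ N = 1) :
    ∃ w : U (Red.bc s T), canU h T w =
      θ.toTheta.e ((Over.pullback g).map x : Red.bc g T ⟶ Red.bc g A) ((Over.pullback g).map y) hx' hy' := by
  -- the datum over `V`
  let AV : Over (Spec (CommRingCat.of V)) := Red.bc s A
  have hsm : Smooth AV.hom := inferInstanceAs (Smooth (pullback.snd A.hom s))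
  have hgc : GeometricallyConnected AV.hom := inferInstanceAs (GeometricallyConnected (pullback.snd A.hom s))
  let X := Red.bc k AV
  let π : X ⟶ Red.bc g A := (ActBC.bcCompIso k s A h).hom
  have hπ : IsMonHom π := ActBC.bcCompIso_isMonHom k s h
  have hπi : IsIso π := inferInstanceAs (IsIso (ActBC.bcCompIso k s A h).hom)
  let P₀ : (X ⊗ X).left.Modules := (Scheme.Modules.pullback (π ⊗ₘ π).left).obj P
  have hP₀ : PicF.IsInvertible P₀ := Groth.Agent.Fdesc.LocGen.isInvertible_pullback _ hP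
  have hPc : mk P₀ hP₀ = pl (π ⊗ₘ π) (mk P hP) := rfl
  obtain ⟨PV, κ, DV, hPV, hκ, hκb, ⟨θV⟩⟩ := main' hk AV P₀ hP₀
    (by rw [hPc, ← pl_comp, axis₁_map, pl_comp, class_axis₁ hP D, map_one])
    (by rw [hPc, ← pl_comp, axis₂_map, pl_comp, class_axis₂ hP D, map_one])
    (N := N) (by rw [hPc, ← pl_comp, ← pl_comp, powL_map, powR_map, pl_comp, pl_comp, class_pow hP θ])
    (constU_of_iso π hc)
  have hxV : ((Over.pullback s).map x : Red.bc s T ⟶ AV) ^ N = 1 := by
    rw [← bc_map_pow, hx, bc_map_one]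
  have hyV : ((Over.pullback s).map y : Red.bc s T ⟶ AV) ^ N = 1 := by
    rw [← bc_map_pow, hy, bc_map_one]
  refine ⟨θV.toTheta.e ((Over.pullback s).map x : Red.bc s T ⟶ AV) ((Over.pullback s).map y) hxV hyV, ?_⟩
  -- comparison
  rw [canU]
  let x' : Red.bc g T ⟶ X := (Over.pullback g).map x ≫ (ActBC.bcCompIso k s A h).inv
  let y' : Red.bc g T ⟶ X := (Over.pullback g).map y ≫ (ActBC.bcCompIso k s A h).inv
  have ex : x' ≫ π = (Over.pullback g).map x := by
    change ((Over.pullback g).map x ≫ (ActBC.bcCompIso k s A h).inv) ≫ (ActBC.bcCompIso k s A h).hom = _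
    rw [Category.assoc, Iso.inv_hom_id, Category.comp_id]
  have ey : y' ≫ π = (Over.pullback g).map y := by
    change ((Over.pullback g).map y ≫ (ActBC.bcCompIso k s A h).inv) ≫ (ActBC.bcCompIso k s A h).hom = _
    rw [Category.assoc, Iso.inv_hom_id, Category.comp_id]
  have hmx : ((can h T ≫ (Over.pullback s).map x : (Over.map k).obj (Red.bc g T) ⟶ AV)) ^ N = 1 := by
    rw [← comp_pow', hxV, MonObj.comp_one]
  have hmy : ((can h T ≫ (Over.pullback s).map y : (Over.map k).obj (Red.bc g T) ⟶ AV)) ^ N = 1 := by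
    rw [← comp_pow', hyV, MonObj.comp_one]
  rw [← θV.toTheta.e_nat (can h T) _ _ hxV hyV hmx hmy]
  have hdx : dn k x' ^ N = 1 := by
    have := can_map h x
    change dn k ((Over.pullback g).map x ≫ (ActBC.bcCompIso k s A h).inv) ^ N = 1
    rw [← this]
    exact hmx
  have hdy : dn k y' ^ N = 1 := by
    have := can_map h y
    change dn k ((Over.pullback g).map y ≫ (ActBC.bcCompIso k s A h).inv) ^ N = 1
    rw [← this]
    exact hmy
  have hx'' : x' ^ N = 1 := dn_inj k (by rw [dn_pow, hdx, dn_one])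
  have hy'' : y' ^ N = 1 := dn_inj k (by rw [dn_pow, hdy, dn_one])
  have key := e_closed k DV κ hκ (hκb.trans (pr2_eq_cc k AV)) π D (cart (π ⊗ₘ π).left P) (isCart_cart _ _) rfl θV θ
    (axesU_of_iso π (axesU_of_pushU hU)) x' y' hx'' hy'' hdx hdy (by rw [ex]; exact hx') (by rw [ey]; exact hy')
  have c1 : ∀ (a b a' b' : Red.bc g T ⟶ Red.bc g A) (ha : a ^ N = 1) (hb : b ^ N = 1) (ha' : a' ^ N = 1)
      (hb' : b' ^ N = 1), a = a' → b = b' → θ.toTheta.e a b ha hb = θ.toTheta.e a' b' ha' hb' := by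
    rintro a b _ _ ha hb ha' hb' rfl rfl
    rfl
  have c2 : ∀ (a b a' b' : (Over.map k).obj (Red.bc g T) ⟶ AV) (ha : a ^ N = 1) (hb : b ^ N = 1) (ha' : a' ^ N = 1)
      (hb' : b' ^ N = 1), a = a' → b = b' → θV.toTheta.e a b ha hb = θV.toTheta.e a' b' ha' hb' := by
    rintro a b _ _ ha hb ha' hb' rfl rfl
    rfl
  rw [c1 _ _ _ _ hx' hy' (by rw [ex]; exact hx') (by rw [ey]; exact hy') ex.symm ey.symm, key]
  exact c2 _ _ _ _ _ _ _ _ (can_map h x) (can_map h y)

end Dvr

section Hartogs

variable {S S' : Scheme.{u}} (g : S' ⟶ S)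

/-- Restriction of invertible functions to a base change. -/
def rs (T : Over S) : U T →* U (Red.bc g T) := ures (dn g (𝟙 (Red.bc g T)))

theorem rs_val (T : Over S) (u : U T) : (rs g T u : Γ((Red.bc g T).left, ⊤)) = (pr g T).appTop (u : Γ(T.left, ⊤)) := by
  change (dn g (𝟙 (Red.bc g T))).left.appTop _ = _
  have : (dn g (𝟙 (Red.bc g T))).left = pr g T := Category.id_comp _
  rw [this]

theorem map_dn_id {T T' : Over S} (f : T' ⟶ T) :
    (Over.map g).map ((Over.pullback g).map f) ≫ dn g (𝟙 (Red.bc g T)) = dn g (𝟙 (Red.bc g T')) ≫ f := by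
  rw [← dn_comp, ← dn_map, Category.comp_id, Category.id_comp]

theorem rs_ures {T T' : Over S} (f : T' ⟶ T) (u : U T) :
    rs g T' (ures f u) = ures ((Over.pullback g).map f) (rs g T u) := by
  have h1 : ures (dn g (𝟙 (Red.bc g T'))) (ures f u) =
      ures ((Over.map g).map ((Over.pullback g).map f)) (ures (dn g (𝟙 (Red.bc g T))) u) := by
    rw [← ures_comp, ← ures_comp, map_dn_id]
  exact h1

end Hartogs

section Main

variable {R K : Type u} [CommRing R] [IsDomain R] [Field K] [Algebra R K] [IsFractionRing R K]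
  {g : Spec (CommRingCat.of K) ⟶ Spec (CommRingCat.of R)}
  (hg : g = Spec.map (CommRingCat.ofHom (algebraMap R K)))

include hg in
theorem rs_injective (T : Over (Spec (CommRingCat.of R))) [Flat T.hom] [CompactSpace T.left]
    [QuasiSeparatedSpace T.left] : Function.Injective (rs g T) := by
  intro a b h
  apply Units.ext
  have hp : IsPullback (pr g T) (Red.bc g T).hom T.hom (Spec.map (CommRingCat.ofHom (algebraMap R K))) := by
    rw [← hg]; exact isPullback_pr g T
  apply Hart.appTop_injective hp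
  have := congrArg Units.val h
  rwa [rs_val, rs_val] at this

variable [IsNoetherianRing R] [IsIntegrallyClosed R]

include hg in
theorem exists_of_dvr (T : Over (Spec (CommRingCat.of R))) [Flat T.hom] [CompactSpace T.left]
    [QuasiSeparatedSpace T.left] (u₀ : U (Red.bc g T))
    (h : ∀ (q : Ideal R) [q.IsPrime], IsDiscreteValuationRing (Localization.AtPrime q) →
      ∃ (k : Spec (CommRingCat.of K) ⟶ Spec (CommRingCat.of (Localization.AtPrime q)))
        (s : Spec (CommRingCat.of (Localization.AtPrime q)) ⟶ Spec (CommRingCat.of R)) (h : k ≫ s = g)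
        (w : U (Red.bc s T)), s = Spec.map (CommRingCat.ofHom (algebraMap R (Localization.AtPrime q))) ∧
        canU h T w = u₀) :
    ∃ w : U T, rs g T w = u₀ := by
  have hp : IsPullback (pr g T) (Red.bc g T).hom T.hom (Spec.map (CommRingCat.ofHom (algebraMap R K))) := by
    rw [← hg]; exact isPullback_pr g T
  obtain ⟨w, hw, -⟩ := Hart.exists_unit hp u₀ (by
    intro q _ hq
    obtain ⟨k, s, h, w, hs, hw⟩ := h q hq
    have hp' : IsPullback (pr s T) (Red.bc s T).hom T.hom
        (Spec.map (CommRingCat.ofHom (algebraMap R (Localization.AtPrime q)))) := by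
      rw [← hs]; exact isPullback_pr s T
    exact ⟨(Red.bc s T).left, (can h T).left, pr s T, (Red.bc s T).hom, hp', can_fst h T, w, Units.ext (congrArg Units.val hw)⟩)
  refine ⟨w, Units.ext ?_⟩
  rw [rs_val]
  exact congrArg Units.val hw

include hg in
/-- **Extension of the values over a Noetherian normal domain.** -/
theorem exists_val (A : Over (Spec (CommRingCat.of R))) [GrpObj A] [Smooth A.hom] [GeometricallyConnected A.hom]
    {P : (Red.bc g A ⊗ Red.bc g A).left.Modules} (hP : PicF.IsInvertible P)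
    {D : Bir (GTor.ofMod (Red.bc g A ⊗ Red.bc g A) P)} {N : ℕ} (θ : ATheta D N)
    (hc : ConstU (Red.bc g A)) (hU : PushU (Red.bc g A))
    {T : Over (Spec (CommRingCat.of R))} [Flat T.hom] [CompactSpace T.left] [QuasiSeparatedSpace T.left]
    (x y : T ⟶ A) (hx : x ^ N = 1) (hy : y ^ N = 1)
    (hx' : ((Over.pullback g).map x : Red.bc g T ⟶ Red.bc g A) ^ N = 1)
    (hy' : ((Over.pullback g).map y : Red.bc g T ⟶ Red.bc g A) ^ N = 1) :
    ∃ w : U T, rs g T w =
      θ.toTheta.e ((Over.pullback g).map x : Red.bc g T ⟶ Red.bc g A) ((Over.pullback g).map y) hx' hy' := by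
  refine exists_of_dvr hg T _ ?_
  intro q _ hq
  have hu : ∀ y : q.primeCompl, IsUnit (algebraMap R K y) := by
    intro y
    rw [isUnit_iff_ne_zero, Ne, map_eq_zero_iff _ (IsFractionRing.injective R K)]
    intro h0
    exact y.2 (h0 ▸ q.zero_mem)
  let φ : Localization.AtPrime q →+* K := IsLocalization.lift (M := q.primeCompl) hu
  let _ : Algebra (Localization.AtPrime q) K := φ.toAlgebra
  have ht : IsScalarTower R (Localization.AtPrime q) K := IsScalarTower.of_algebraMap_eq fun x =>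
    (IsLocalization.lift_eq hu x).symm
  have hfr : IsFractionRing (Localization.AtPrime q) K :=
    IsFractionRing.isFractionRing_of_isDomain_of_isLocalization q.primeCompl _ _
  have h : Spec.map (CommRingCat.ofHom (algebraMap (Localization.AtPrime q) K)) ≫
      Spec.map (CommRingCat.ofHom (algebraMap R (Localization.AtPrime q))) = g := by
    rw [hg, ← Spec.map_comp, ← CommRingCat.ofHom_comp, ← IsScalarTower.algebraMap_eq]
  obtain ⟨w, hw⟩ := exists_dvr (K := K) (V := Localization.AtPrime q) rfl h A hP θ hc hU x y hx hy hx' hy'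
  exact ⟨_, _, h, w, rfl, hw⟩

end Main

end K388.PairExt
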